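import Cfsg.Agent.Helper3.Golay.M24Trans

set_option autoImplicit false

namespace Cfsg.Agent.Helper3

open Cfsg
open scoped Pointwise

/-! ### certificates: stabilizer of the dodecad of squares (mask 340831) -/

def m12Levels : List (ℕ × List ℕ × List ℕ × List (List ℕ)) :=
  [(0, [340831], [], [[], [3, 1, 1, 1, 2, 1, 4, 0], [4, 1, 1, 1, 2, 1, 4, 0], [0, 4, 0, 0, 3, 1, 4, 1], [1, 2, 0, 0, 4, 1, 4, 0], [1, 1, 1, 2, 1, 4, 0], [0, 3, 0, 4, 1, 1, 3, 1], [4, 1, 3, 0, 2, 0, 0, 0], [1, 3, 0, 2, 0, 0, 0], [4, 4, 1, 3, 0, 2, 0, 0, 0], [3, 0, 3, 0, 4, 1, 1, 3, 1], [1, 3, 0, 3, 1, 1, 2, 0]]),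
   (1, [340831], [], [[], [4, 4], [0, 4, 0, 0, 3, 1, 4, 1, 3, 1, 3, 0, 2, 0, 0, 0, 4], [3, 3], [4], [0, 4, 0, 0, 3, 1, 4, 1, 3, 1, 3, 0, 2, 0, 0, 0], [1, 1, 1, 2, 1, 4, 0, 4, 0, 3, 0, 4, 1, 1, 3, 1, 4], [0, 4, 0, 0, 3, 1, 4, 1, 3, 1, 3, 0, 2, 0, 0, 0, 3], [1, 2, 0, 0, 4, 1, 4, 0, 3, 3, 1, 1, 1, 2, 1, 4, 0], [1, 1, 1, 2, 1, 4, 0, 4, 0, 3, 0, 4, 1, 1, 3, 1], [3]]),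
   (2, [340831], [], [[], [1, 2, 0, 0, 4, 1, 4, 0, 4, 1, 2, 0, 0, 4, 1, 4, 0, 3, 3], [4, 4, 0, 3, 0, 4, 1, 1, 3, 1, 4, 1, 2, 0, 0, 4, 2, 0, 0, 0], [3, 1, 1, 1, 2, 3, 1, 1, 2, 0, 3, 0, 4, 0, 0, 3, 1, 4, 1, 3], [3, 1, 3, 0, 2, 0, 0, 0, 3, 3, 1, 2, 0, 0, 4, 1, 4, 0, 4, 4], [3, 0, 3, 0, 4, 1, 1, 3, 1, 3, 0, 4, 0, 0, 3, 1, 4, 1, 3], [3, 3, 1, 3, 0, 3, 1, 1, 2, 0, 4, 4, 1, 1, 1, 2, 1, 4, 0, 4], [0, 3, 0, 4, 1, 1, 3, 1, 1, 2, 0, 0, 4, 2, 0, 0, 0], [0, 3, 0, 4, 1, 1, 3, 1, 3, 0, 4, 0, 0, 3, 1, 4, 1, 3, 3], [1, 1, 1, 2, 3, 1, 1, 2, 0, 0, 4, 0, 0, 3, 1, 4, 1]]),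
   (3, [340831], [], [[], [4, 1, 3, 0, 2, 0, 0, 0, 3, 3, 1, 2, 0, 0, 4, 1, 4, 0], [1, 3, 0, 3, 1, 1, 2, 0, 4, 4, 1, 1, 1, 2, 1, 4, 0, 3], [3, 1, 1, 1, 2, 3, 1, 1, 2, 0, 0, 4, 0, 0, 3, 1, 4, 1, 4], [3, 3, 0, 3, 0, 4, 1, 1, 3, 1, 4, 0, 4, 0, 0, 3, 1, 4, 1, 3], [3, 0, 3, 0, 4, 1, 1, 3, 1, 1, 2, 0, 0, 4, 2, 0, 0, 0, 4], [4, 4, 1, 1, 1, 2, 3, 1, 1, 2, 0, 0, 4, 0, 0, 3, 1, 4, 1, 3, 3], [4, 4, 0, 3, 0, 4, 1, 1, 3, 1, 1, 2, 0, 0, 4, 2, 0, 0, 0, 3, 3], [3, 3, 1, 1, 1, 2, 3, 1, 1, 2, 0, 4, 4, 1, 2, 0, 0, 4, 2, 0, 0, 0, 3]]),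
   (4, [340831], [], [[], [1, 1, 1, 2, 1, 4, 0, 3, 1, 3, 0, 2, 0, 0, 0, 4, 4, 0, 4, 0, 0, 3, 1, 4, 1, 4], [4, 1, 1, 1, 2, 1, 4, 1, 1, 2, 1, 4, 0, 3, 3, 1, 2, 0, 0, 4, 1, 4, 1, 1, 2, 1, 4, 0, 4], [3, 0, 3, 0, 4, 1, 1, 3, 1, 1, 3, 0, 2, 0, 0, 0, 3, 1, 1, 1, 2, 1, 4, 0, 4, 4], [3, 3, 1, 3, 0, 3, 1, 1, 2, 0, 4, 1, 1, 1, 2, 1, 4, 1, 1, 2, 1, 4, 0, 3, 3], [3, 3, 1, 2, 0, 0, 4, 2, 0, 0, 0, 3, 3, 0, 3, 0, 4, 1, 1, 3, 1, 3], [3, 1, 3, 0, 2, 0, 0, 3, 0, 3, 1, 1, 2, 0, 4, 4, 1, 3, 0, 2, 0, 0, 3, 0, 2, 0, 0, 0, 3], [4, 0, 4, 0, 0, 3, 1, 4, 1, 4, 4, 1, 1, 1, 2, 3, 1, 1, 2, 0, 4, 4]])]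

def m12Close : List (ℕ × ℕ × List ℕ × List ℕ) :=
  [(0, 12, [5279, 340831], []),
   (1, 692282, [], []),
   (1, 45159, [], []),
   (1, 69395, [], []),
   (0, 7, [5279], [69395]),
   (0, 10, [5279], []),
   (0, 11, [69395], [340831]),
   (0, 5, [10558, 692282], []),
   (0, 6, [8391797, 340831], []),
   (0, 8, [10558, 69395], []),
   (0, 9, [69395, 18147], []),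
   (0, 13, [10558], []),
   (0, 14, [18147], []),
   (0, 15, [45159], []),
   (0, 16, [69395], []),
   (0, 17, [133817], []),
   (0, 18, [340831], []),
   (0, 19, [692282], []),
   (0, 20, [1050548], []),
   (0, 21, [2101096], []),
   (0, 22, [4196943], []),
   (0, 23, [], [])]

def m11cLevels : List (ℕ × List ℕ × List ℕ × List (List ℕ)) :=
  [(5, [], [340831], [[], [4], [4, 4], [1, 3, 0, 3, 1, 1, 2, 0, 4, 4, 1, 1, 1, 2, 1, 4, 0], [1, 1, 1, 2, 1, 4, 0, 4, 0, 3, 0, 4, 1, 1, 3, 1, 3], [0, 4, 0, 0, 3, 1, 4, 1, 3, 1, 3, 0, 2, 0, 0, 0, 3], [1, 1, 1, 2, 1, 4, 0, 4, 0, 3, 0, 4, 1, 1, 3, 1], [0, 4, 0, 0, 3, 1, 4, 1, 3, 1, 3, 0, 2, 0, 0, 0], [3, 3], [3], [0, 4, 0, 0, 3, 1, 4, 1, 3, 1, 3, 0, 2, 0, 0, 0, 4], [0, 3, 0, 4, 1, 1,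 3, 1, 1, 2, 0, 0, 4, 2, 0, 0, 0]]),
   (7, [], [340831], [[], [1, 2, 0, 0, 4, 1, 4, 0, 3, 1, 1, 2, 0, 4, 0, 0, 4, 2, 0, 0, 0, 4], [3, 1, 3, 0, 3, 1, 1, 2, 0, 3, 1, 3, 0, 3, 1, 1, 2, 0], [4, 0, 3, 0, 4, 1, 1, 3, 1, 3, 3, 0, 4, 0, 0, 3, 1, 4, 1, 4, 4], [4, 4, 1, 1, 1, 2, 3, 1, 1, 2, 0, 0, 4, 0, 0, 3, 1, 4, 1, 4], [4, 1, 3, 0, 3, 1, 1, 2, 0, 4, 4, 1, 1, 1, 2, 1, 4, 0, 3], [1, 2, 0, 0, 4, 1, 4, 1, 1, 2, 1, 4, 0, 0, 3, 0, 4, 1, 1, 3, 1, 3], [1, 2, 0, 0, 4, 1, 4, 0, 4, 1, 2, 0, 0, 4, 1, 4, 0, 4], [0, 3, 0, 4, 1, 1, 3, 1, 3, 3, 0, 4, 0, 0, 3, 1, 4, 1, 4], [3, 3, 1, 3, 0, 3, 1, 1, 2, 0, 3, 1, 3, 0, 3, 1, 1, 2, 0, 3, 3], [1, 3, 0, 2, 0, 0, 0, 4, 4, 1, 3, 0, 3, 1, 1, 2, 0, 3]]),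
   (10, [], [340831], [[], [3, 1, 3, 0, 3, 1, 1, 2, 3, 0, 3, 1, 1, 2, 0, 3, 0, 3, 0, 4, 1, 1, 3, 1, 4], [1, 1, 1, 2, 3, 1, 1, 2, 0, 3, 3, 1, 2, 0, 0, 4, 2, 0, 0, 0], [1, 1, 1, 2, 3, 1, 1, 2, 0, 4, 1, 2, 0, 0, 4, 2, 0, 0, 0], [1, 1, 1, 2, 1, 4, 0, 3, 0, 3, 0, 4, 1, 1, 3, 1, 1, 1, 1, 2, 1, 4, 0, 4, 4], [4, 4, 1, 1, 1, 2, 3, 1, 1, 2, 0, 4, 4, 0, 4, 0, 0, 3, 1, 4, 1], [1, 3, 0, 3, 1, 1, 2, 1, 1, 2, 1, 4, 1, 2, 0, 4, 0, 0, 4, 1, 4, 0], [3, 3, 0, 4, 0, 0, 3, 1, 4, 1, 4, 4, 1, 1, 1, 2, 3, 1, 1, 2, 0, 3, 3], [1, 1, 1, 2, 3, 1, 1, 2, 0, 4, 4, 1, 2, 0, 0, 4, 2, 0, 0, 0], [1, 1, 1, 2, 3, 1, 1, 2, 0, 3, 1, 2, 0, 0, 4, 2, 0, 0, 0]])]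

def octFixLevel : List (ℕ × List ℕ × List ℕ × List (List ℕ)) :=
  [(5, [], [], [[], [2, 1, 4, 0, 4, 2, 1, 4, 4, 1, 4, 0, 3, 1, 1, 3, 1, 2, 0, 3, 0, 4, 1, 1, 4, 0, 0, 4, 4, 3, 1, 2, 0, 3, 0, 4, 1, 1, 4, 0, 0, 4, 4], [3, 0, 3, 1, 4, 1, 3, 1, 4, 0, 3, 2, 0, 3, 1, 3, 1, 2, 0, 3, 0, 4, 1, 1, 4, 0, 0, 4, 4, 3, 1, 2, 0, 3, 0, 4, 1, 1, 4, 0, 0, 4, 4], [3, 1, 3, 1, 3, 3, 0, 3, 1, 1, 1, 3, 2, 0], [4, 1, 3, 1, 4, 2, 0, 0, 4, 4, 2, 0, 4, 0, 3, 0, 3, 1, 2, 0, 3, 0, 4, 1, 1, 4, 0, 0, 4, 4], [0, 4, 1, 4, 2, 1, 3, 0, 4, 0, 3, 0, 4, 1, 4, 3, 1, 2, 0, 3, 0, 4, 1, 1, 4, 0, 0, 4, 4], [4, 1, 4, 1, 1, 3, 3, 1, 3, 0, 4, 1, 4, 1, 4, 3, 1, 2, 0, 3, 0, 4, 1, 1, 4, 0, 0, 4, 4], [0, 0, 4, 0, 3, 3, 2, 0, 0, 3, 1, 1, 3, 0, 0], [3, 1, 2, 0, 4, 0,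 4, 4, 1, 4, 4, 2, 0, 0, 0, 3, 1, 2, 0, 3, 0, 4, 1, 1, 4, 0, 0, 4, 4, 3, 1, 2, 0, 3, 0, 4, 1, 1, 4, 0, 0, 4, 4], [0, 4, 1, 4, 0, 0, 0, 3, 2, 1, 4, 0, 3, 1, 2, 0, 3, 0, 4, 1, 1, 4, 0, 0, 4, 4], [3, 1, 4, 2, 1, 3, 2, 1, 4, 1, 1, 3, 1, 4, 1, 3, 1, 2, 0, 3, 0, 4, 1, 1, 4, 0, 0, 4, 4], [0, 3, 0, 4, 0, 0, 3, 0, 4, 2, 0, 3, 2, 0, 4, 3, 1, 2, 0, 3, 0, 4, 1, 1, 4, 0, 0, 4, 4, 3, 1, 2, 0, 3, 0, 4, 1, 1, 4, 0, 0, 4, 4], [2, 1, 3, 3, 2, 0, 3, 0, 3, 0, 4, 1, 2, 1], [1, 1, 1, 3, 3, 2, 0, 3, 3, 1, 3, 1, 2, 0, 4, 3, 1, 2, 0, 3, 0, 4, 1, 1, 4, 0, 0, 4, 4], [4, 4, 1, 4, 4, 2, 1, 3, 3, 0, 0, 3, 1, 4, 1, 3, 1, 2, 0, 3, 0, 4, 1, 1, 4, 0, 0, 4, 4, 3, 1, 2, 0, 3, 0, 4, 1, 1, 4, 0, 0, 4, 4], [1, 3, 0, 4, 2, 1, 1, 1, 3, 0, 3, 1, 3, 1, 2, 0, 3,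 0, 4, 1, 1, 4, 0, 0, 4, 4, 3, 1, 2, 0, 3, 0, 4, 1, 1, 4, 0, 0, 4, 4]])]

def octFixClose : List (ℕ × List ℕ × List ℕ) :=
  [(6, [18147, 42232], []),
   (8, [262637, 10558], []),
   (9, [18147, 69395], []),
   (11, [10558, 36294], []),
   (13, [10558], []),
   (14, [18147], []),
   (15, [36294], []),
   (16, [69395], []),
   (17, [133817], []),
   (18, [262637], []),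
   (19, [525274], []),
   (20, [1050548], []),
   (21, [2101096], []),
   (22, [4196943], []),
   (23, [], [])]

theorem m12_chain_ok : gChainOK [340831] 0 m12Levels = true := by decide +kernel

theorem m12_close_ok : gClose2OK [340831] 31 m12Close = true := by decide +kernel

theorem m12_end : gChainEnd 0 m12Levels = 31 := by decide +kernel

theorem m12_prod : gChainProd 0 m12Levels = 95040 := by decide +kernel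

theorem gSub_m12_31 : gSub [340831] 31 = ⊥ := close2_sound m12Close [340831] 31 m12_close_ok

theorem m12_card : Nat.card (gSub [340831] 0) = 95040 := by
  have h := chain_card [340831] m12Levels 0 m12_chain_ok
  rw [m12_end, gSub_m12_31, m12_prod, Subgroup.card_bot, mul_one] at h
  exact h

theorem m11c_chain_ok : gChainOK [340831] 1 m11cLevels = true := by decide +kernel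

theorem octFix_chain_ok : gChainOK [] 5279 octFixLevel = true := by decide +kernel

theorem octFix_close_ok : gCloseOK [] 5311 octFixClose = true := by decide +kernel

end Cfsg.Agent.Helper3
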