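import Cfsg.Agent.Helper3.Golay.Chain

set_option autoImplicit false

namespace Cfsg.Agent.Helper3

open Cfsg
open scoped Pointwise

/-- the stabilizer chain of `M24`: base points, atoms and transversal words -/
def m24Levels : List (ℕ × List ℕ × List ℕ × List (List ℕ)) :=
  [(0, [], [], [[], [0], [0, 0], [0, 0, 0], [4, 0, 0], [1, 4, 0], [4, 0], [0, 4, 0], [0, 0, 4, 0], [2, 1, 4, 0], [1, 2, 0, 0], [2, 0, 0], [2, 1, 1], [1, 3, 1], [3, 1], [0, 3, 1], [1, 1, 3, 0], [1, 3, 0], [3, 0], [4, 1], [1, 1, 1], [1, 1], [1], [2]]),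
   (1, [], [], [[], [4, 4], [2, 0, 3, 2], [3, 3], [3, 2, 1, 3, 2], [4], [2, 1, 3, 2], [3, 0, 2, 0], [4, 0, 2, 0], [2, 0, 0, 3, 2], [2, 0, 0, 0, 2], [0, 2, 0], [4, 4, 0, 2, 0], [2, 1, 4, 2], [2, 0, 0, 0, 0, 2], [3, 3, 0, 2, 0], [2, 1, 4, 1, 2], [3], [4, 2, 0, 0, 2], [2, 0, 4, 4, 1, 2], [2, 1, 1, 3, 2], [2, 0, 0, 2], [1, 2, 1]]),
   (2, [], [], [[], [3, 0, 3, 0, 3, 0], [0, 3, 1, 3, 3, 1, 3, 0, 0], [2, 0, 0, 3, 1, 2], [3, 2, 1, 1, 4, 1, 1, 2], [4, 2, 1, 3, 0, 3, 2], [2, 0, 0, 0, 4, 2], [3, 1, 3, 1, 4, 4, 1, 1], [3, 2, 1, 1, 1, 2], [2, 0, 4, 0, 4, 2], [4, 2, 1, 4, 0, 3, 2], [2, 1, 3, 0, 2], [3, 2, 0, 0, 3, 3, 2], [1, 1, 4, 4, 0, 4, 4], [2, 0, 4, 1, 4, 1, 1, 2], [0, 2, 1, 4, 4, 2, 1], [2, 0, 4, 1, 1, 2], [2, 1, 1, 4, 1, 4, 2], [2, 1, 4, 0, 2], [2, 1, 4, 4, 0,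 2], [3, 2, 1, 3, 1, 2], [0, 3, 3, 1, 2, 1, 1]]),
   (3, [], [], [[], [4, 1, 4, 1, 4, 1], [4, 2, 1, 1, 1, 3, 3, 2], [4, 4, 0, 0, 3, 0, 4, 0, 0], [3, 2, 0, 3, 3, 0, 4, 0, 0, 4, 2], [0, 0, 0, 4, 0, 2, 0, 0, 0, 0, 0], [4, 2, 0, 4, 1, 3, 3, 1, 2], [2, 0, 0, 0, 0, 3, 0, 4, 0, 2], [2, 1, 3, 1, 3, 1, 4, 4, 1, 2], [4, 1, 4, 2, 0, 0, 0, 3, 1, 3, 0], [2, 0, 4, 4, 0, 3, 1, 3, 2], [3, 0, 0, 0, 3, 3, 1, 4, 0], [0, 3, 2, 0, 0, 3, 3, 2, 1], [2, 1, 1, 4, 1, 4, 1, 3, 0, 2], [1, 3, 0, 4, 4, 1, 1, 1, 4], [0, 0, 2, 1, 4, 4, 2, 1, 1], [4, 4, 2, 0, 0, 0, 3, 2], [1, 4, 2, 1, 4, 0, 3, 2, 0, 4], [4, 1, 3, 1, 3, 1, 4, 0, 3, 0], [3, 3, 0, 2, 1, 3, 2, 1, 3, 2, 1], [0, 0, 3, 3, 1, 2, 1, 1, 1]]),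
   (4, [], [], [[], [2, 0, 4, 0, 4, 0, 0, 3, 0, 0, 4, 2], [3, 2, 0, 0, 0, 0, 3, 0, 4, 1, 1, 4, 2], [4, 1, 2, 0, 3, 0, 4, 1, 1, 4, 0, 0], [2, 0, 0, 4, 0, 4, 1, 3, 1, 3, 3, 2], [2, 0, 3, 1, 1, 4, 0, 3, 1, 4, 2], [0, 0, 4, 0, 2, 1, 3, 2, 0, 0, 3, 2, 0], [1, 3, 3, 1, 4, 0, 3, 0, 0, 0, 0], [3, 3, 1, 4, 1, 1, 1, 3, 0, 3, 3, 0], [0, 3, 0, 4, 1, 1, 4, 0, 4, 2, 0, 4, 2], [2, 1, 4, 4, 0, 4, 4, 1, 1, 4, 2], [3, 2, 0, 4, 1, 3, 0, 0, 4, 1, 2], [4, 1, 4, 0, 0, 0, 3, 2, 1, 4, 0, 0], [3, 3, 2, 1, 3, 3, 0, 0, 0, 3, 1, 1, 2], [2, 0, 0, 4, 1, 3, 2, 0, 0, 0, 0, 4, 1], [0, 0, 0, 2, 1, 4, 4, 2, 1, 1, 1], [1, 1, 1, 1, 4, 1, 3, 0, 4, 4, 0], [4, 1, 4, 1, 3, 3, 2, 1, 1, 4, 2, 1], [3, 2, 0, 0, 3, 3, 1, 3, 3, 0, 2], [0, 0, 0, 3, 3, 1, 2, 1, 1, 1, 1]]),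
   (5, [], [5279], [[], [2, 1, 4, 0, 4, 2, 1, 4, 4, 1, 4, 0, 3, 1, 1], [3, 0, 3, 1, 4, 1, 3, 1, 4, 0, 3, 2, 0, 3, 1], [3, 1, 3, 1, 3, 3, 0, 3, 1, 1, 1, 3, 2, 0], [4, 1, 3, 1, 4, 2, 0, 0, 4, 4, 2, 0, 4, 0, 3, 0], [0, 4, 1, 4, 2, 1, 3, 0, 4, 0, 3, 0, 4, 1, 4], [4, 1, 4, 1, 1, 3, 3, 1, 3, 0, 4, 1, 4, 1, 4], [0, 0, 4, 0, 3, 3, 2, 0, 0, 3, 1, 1, 3, 0, 0], [3, 1, 2, 0, 4, 0, 4, 4, 1, 4, 4, 2, 0, 0, 0], [0, 4, 1, 4, 0, 0, 0, 3, 2, 1, 4, 0], [3, 1, 4, 2, 1, 3, 2, 1, 4, 1, 1, 3, 1, 4, 1], [0, 3, 0, 4, 0, 0, 3, 0, 4, 2, 0, 3, 2, 0, 4], [2, 1, 3, 3, 2, 0, 3, 0, 3, 0, 4, 1, 2, 1], [1, 1, 1, 3, 3, 2, 0, 3, 3, 1, 3, 1, 2, 0, 4], [4, 4, 1, 4, 4, 2, 1, 3, 3, 0, 0, 3, 1, 4, 1], [1, 3, 0, 4, 2, 1, 1, 1, 3, 0, 3, 1]]),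
   (7, [5279], [], [[], [3, 3, 1, 1, 3, 0, 0, 3, 1, 4, 1, 2, 0, 4], [3, 1, 2, 0, 3, 0, 4, 1, 1, 4, 0, 0, 4, 4]])]

def m24Close : List (ℕ × List ℕ × List ℕ) :=
  [(6, [262637, 2162811], []),
   (8, [262637, 10558], []),
   (9, [525274, 18147], []),
   (10, [5279, 18147], []),
   (11, [10558, 36294], []),
   (12, [5279], []),
   (13, [10558], []),
   (14, [18147], []),
   (15, [36294], []),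
   (16, [69395], []),
   (17, [133817], []),
   (18, [262637], []),
   (19, [525274], []),
   (20, [1050548], []),
   (21, [2101096], []),
   (22, [4196943], []),
   (23, [], [])]

theorem m24_chain_ok : gChainOK [] 0 m24Levels = true := by decide +kernel

theorem m24_close_ok : gCloseOK [] 191 m24Close = true := by decide +kernel

theorem m24_end : gChainEnd 0 m24Levels = 191 := by decide +kernel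

theorem m24_prod : gChainProd 0 m24Levels = 244823040 := by decide +kernel

theorem gSub_191 : gSub [] 191 = ⊥ := close_sound [] m24Close 191 m24_close_ok

theorem M24_card : Nat.card M24 = 244823040 := by
  have h := chain_card [] m24Levels 0 m24_chain_ok
  rw [m24_end, gSub_191, m24_prod, gSub_nil_zero, Subgroup.card_bot, mul_one] at h
  exact h

theorem M24_eq_gen : gGenGrp = M24 := by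
  apply le_antisymm gGenGrp_le
  have h := chain_gen [] m24Levels gGenGrp le_rfl 0 m24_chain_ok (by
    rw [m24_end, gSub_191]; exact bot_le)
  rwa [gSub_nil_zero] at h

end Cfsg.Agent.Helper3
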