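import Cfsg.Agent.Helper3.Golay.Classes
import Cfsg.Agent.Helper3.Golay.OctFix

set_option autoImplicit false

namespace Cfsg.Agent.Helper3

open Cfsg
open scoped Pointwise symmDiff

def pairProgO : List (ℕ × ℕ × List ℕ × List ℕ × List (List ℕ)) :=
  [(0, 5, [], [5279], [[], [2, 1, 1, 4, 2, 0, 4, 4, 0, 0, 0, 0, 0, 3, 0, 4, 0, 2, 3, 2, 0, 4, 1, 3, 0, 0, 4, 1, 2, 0, 3, 0, 4, 0, 0, 3, 0, 4, 2, 0, 3, 0, 3, 0, 4, 1, 1, 4, 0, 0, 4, 4], [0, 4, 0, 2, 0, 0, 2, 0, 3, 3, 1, 2, 1, 1, 4, 1, 3, 1, 3, 1, 4, 0, 3, 0, 3, 2, 0, 0, 0, 0, 3, 0, 4, 1, 1, 4, 1, 4, 0, 4, 2, 1, 4, 4, 1, 4, 0, 3, 1, 1], [0, 4, 4, 0, 2, 1, 4, 4, 2, 1, 4, 2, 0, 4, 1, 3, 3, 1, 2, 4, 1, 4, 1, 3, 3, 2, 1, 1, 4, 2, 1, 2, 1, 4, 0, 4, 2, 1,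 4, 4, 1, 4, 0, 3, 1, 1, 3, 1, 2, 0, 3, 0, 4, 1, 1, 4, 0, 0, 4, 4], [4, 1, 3, 1, 4, 2, 0, 0, 4, 4, 2, 0, 4, 0, 3, 0, 3, 1, 2, 0, 3, 0, 4, 1, 1, 4, 0, 0, 4, 4], [0, 0, 2, 1, 1, 3, 2, 3, 2, 1, 3, 1, 2, 4, 4, 0, 0, 3, 0, 4, 0, 0, 3, 3, 1, 4, 1, 1, 1, 3, 0, 3, 3, 0, 3, 0, 3, 1, 4, 1, 3, 1, 4, 0, 3, 2, 0, 3, 1, 3, 1, 2, 0, 3, 0, 4, 1, 1, 4, 0, 0, 4, 4], [0, 4, 0, 2, 0, 4, 1, 4, 0, 4, 4, 0, 3, 1, 3, 2, 0, 0, 0, 3, 3, 1, 2, 1, 1, 4, 0, 3, 3, 2, 0, 0, 3, 1, 1, 3, 0, 0], [0, 0, 0, 3, 2, 1, 3, 0, 3, 0, 0, 0, 0, 3, 0, 4, 0, 2, 1, 1, 1, 1, 4, 1, 3, 0, 4, 4, 0, 2, 1, 3, 3, 2, 0, 3, 0, 3, 0, 4, 1, 2, 1, 3, 3, 1, 1, 3, 0, 0, 3, 1, 4, 1, 2, 0, 4], [1, 2, 0, 0, 3, 2, 1, 3, 2, 0, 3, 3, 1, 2, 1, 1, 4, 4, 2, 0,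 0, 0, 3, 2, 3, 3, 1, 4, 1, 1, 1, 3, 0, 3, 3, 0, 0, 0, 4, 0, 3, 3, 2, 0, 0, 3, 1, 1, 3, 0, 0, 3, 1, 2, 0, 3, 0, 4, 1, 1, 4, 0, 0, 4, 4], [0, 0, 3, 0, 2, 0, 2, 0, 4, 1, 4, 1, 1, 2, 4, 2, 1, 1, 1, 3, 3, 2, 0, 0, 4, 0, 2, 1, 3, 2, 0, 0, 3, 2, 0, 3, 1, 2, 0, 4, 0, 4, 4, 1, 4, 4, 2, 0, 0, 0, 3, 1, 2, 0, 3, 0, 4, 1, 1, 4, 0, 0, 4, 4], [0, 0, 0, 3, 2, 1, 3, 0, 3, 0, 0, 0, 0, 3, 0, 4, 0, 2, 1, 1, 1, 1, 4, 1, 3, 0, 4, 4, 0, 3, 1, 3, 1, 3, 3, 0, 3, 1, 1, 1, 3, 2, 0, 3, 3, 1, 1, 3, 0, 0, 3, 1, 4, 1, 2, 0, 4], [1, 2, 0, 0, 3, 2, 0, 4, 1, 4, 1, 1, 2, 1, 4, 2, 1, 4, 0, 3, 2, 0, 4, 0, 0, 0, 2, 1, 4, 4, 2, 1, 1, 1, 1, 3, 0, 4, 2, 1, 1, 1, 3, 0, 3, 1], [1, 2, 0, 0, 3, 2, 1, 3, 2, 0, 3, 3, 1, 2, 1, 1, 4, 4, 2,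 0, 0, 0, 3, 2, 3, 3, 1, 4, 1, 1, 1, 3, 0, 3, 3, 0, 2, 1, 4, 0, 4, 2, 1, 4, 4, 1, 4, 0, 3, 1, 1], [2, 1, 1, 4, 4, 0, 2, 0, 2, 1, 4, 4, 0, 2, 0, 0, 3, 3, 1, 2, 3, 3, 1, 2, 1, 1, 1, 1, 4, 4, 1, 4, 4, 2, 1, 3, 3, 0, 0, 3, 1, 4, 1, 3, 1, 2, 0, 3, 0, 4, 1, 1, 4, 0, 0, 4, 4], [0, 4, 0, 2, 0, 0, 2, 0, 3, 3, 1, 2, 1, 1, 4, 1, 3, 1, 3, 1, 4, 0, 3, 0, 3, 2, 0, 0, 0, 0, 3, 0, 4, 1, 1, 4, 2, 0, 0, 4, 0, 3, 3, 2, 0, 0, 3, 1, 1, 3, 0, 0, 3, 1, 2, 0, 3, 0, 4, 1, 1, 4, 0, 0, 4, 4], [4, 0, 0, 2, 1, 1, 3, 2, 3, 1, 3, 1, 4, 4, 1, 3, 2, 0, 0, 3, 3, 2, 1, 1, 3, 3, 1, 4, 0, 3, 0, 0, 0, 0, 4, 4, 1, 4, 4, 2, 1, 3, 3, 0, 0, 3, 1, 4, 1, 3, 1, 2, 0, 3, 0, 4, 1, 1, 4, 0, 0, 4, 4]]),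
   (0, 6, [], [5279], [[], [0, 0, 4, 4, 2, 1, 3, 0, 2, 4, 4, 0, 0, 3, 0, 4, 0, 0, 2, 0, 4, 0, 4, 0, 0, 3, 0, 0, 4, 2, 3, 0, 3, 1, 4, 1, 3, 1, 4, 0, 3, 2, 0, 3, 1, 3, 1, 2, 0, 3, 0, 4, 1, 1, 4, 0, 0, 4, 4], [0, 0, 0, 2, 1, 1, 3, 0, 0, 0, 4, 2, 1, 4, 2, 1, 4, 0, 3, 2, 0, 2, 0, 0, 0, 0, 3, 0, 4, 1, 1, 4, 2, 0, 0, 4, 0, 3, 3, 2, 0, 0, 3, 1, 1, 3, 0, 0], [2, 1, 1, 4, 2, 0, 4, 4, 0, 2, 4, 2, 0, 4, 1, 3, 3, 1, 2, 0, 0, 4, 0, 2, 1, 3, 2, 0, 0, 3, 2, 1, 1, 3, 3, 2, 0, 3, 3, 1, 3, 1, 2, 0, 3, 1, 1, 3, 0, 0, 3, 1, 4, 1, 2, 0, 4], [0, 0, 2, 0, 0, 0, 0, 3, 1, 1, 1, 4, 1, 4, 1, 3, 0, 2, 3, 3, 1, 4, 1, 1, 1, 3, 0, 3, 3, 0, 3, 1, 2, 0, 4, 0, 4, 4, 1, 4, 4, 2, 0, 0, 0, 3, 3, 1, 1, 3, 0, 0, 3, 1, 4, 1, 2, 0,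 4], [0, 0, 0, 2, 1, 1, 3, 1, 1, 4, 1, 4, 2, 4, 1, 3, 1, 3, 1, 4, 0, 3, 0, 3, 2, 0, 0, 0, 0, 3, 0, 4, 1, 1, 4, 2, 0, 3, 0, 4, 0, 0, 3, 0, 4, 2, 0, 3, 2, 0, 3, 1, 1, 3, 0, 0, 3, 1, 4, 1, 2, 0, 4], [0, 2, 0, 3, 0, 0, 0, 4, 2, 4, 4, 2, 0, 0, 0, 3, 0, 4, 0, 4, 0, 0, 3, 0, 0, 4, 1, 3, 3, 2, 0, 3, 0, 3, 0, 4, 1, 2, 1, 3, 1, 2, 0, 3, 0, 4, 1, 1, 4, 0, 0, 4, 4], [3, 3, 2, 0, 4, 1, 4, 4, 0, 3, 1, 3, 2, 3, 2, 0, 4, 1, 3, 0, 0, 4, 1, 2, 4, 4, 1, 4, 4, 2, 1, 3, 3, 0, 0, 3, 1, 4, 1, 3, 1, 2, 0, 3, 0, 4, 1, 1, 4, 0, 0, 4, 4], [2, 1, 1, 2, 0, 4, 1, 1, 2, 1, 4, 2, 1, 4, 0, 3, 2, 0, 4, 2, 0, 3, 1, 1, 4, 0, 3, 1, 4, 2, 3, 1, 2, 0, 4, 0, 4, 4, 1, 4, 4, 2, 0, 0, 0, 3, 3, 1, 1, 3, 0, 0, 3, 1, 4, 1, 2, 0, 4], [2,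 1, 1, 1, 1, 4, 4, 0, 4, 4, 2, 1, 3, 1, 3, 1, 4, 4, 1, 1, 4, 4, 0, 4, 4, 1, 1, 4, 2], [0, 4, 0, 2, 0, 3, 0, 2, 1, 3, 3, 1, 4, 0, 3, 0, 0, 0, 0, 4, 1, 4, 1, 1, 3, 3, 1, 3, 0, 4, 1, 4, 1, 3, 1, 1, 3, 0, 0, 3, 1, 4, 1, 2, 0, 4], [0, 0, 3, 0, 2, 0, 2, 0, 0, 0, 4, 2, 3, 3, 0, 2, 1, 3, 2, 1, 3, 2, 1, 2, 1, 4, 0, 4, 2, 1, 4, 4, 1, 4, 0, 3, 1, 1, 3, 1, 2, 0, 3, 0, 4, 1, 1, 4, 0, 0, 4, 4], [4, 2, 1, 4, 0, 3, 2, 3, 2, 0, 3, 3, 0, 4, 0, 0, 4, 0, 3, 1, 1, 4, 0, 3, 1, 4, 2, 0, 0, 4, 0, 3, 3, 2, 0, 0, 3, 1, 1, 3, 0, 0, 3, 3, 1, 1, 3, 0, 0, 3, 1, 4, 1, 2, 0, 4], [0, 4, 0, 2, 0, 0, 2, 0, 3, 3, 1, 2, 1, 3, 0, 4, 1, 1, 4, 0, 4, 2, 0, 4, 1, 3, 3, 2, 0, 3, 0, 3, 0, 4, 1, 2, 1, 3, 1, 2, 0, 3, 0, 4, 1, 1, 4, 0, 0,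 4, 4], [2, 1, 3, 3, 1, 2, 1, 1, 4, 2, 0, 4, 1, 3, 3, 1, 2, 0, 4, 1, 4, 2, 1, 3, 0, 4, 0, 3, 0, 4, 1, 3, 1, 1, 3, 0, 0, 3, 1, 4, 1, 2, 0, 4]]),
   (0, 8, [], [5279], [[], [0, 4, 0, 2, 1, 4, 1, 2, 0, 2, 1, 4, 4, 2, 1, 4, 4, 0, 0, 3, 0, 4, 1, 1, 4, 1, 3, 0, 4, 4, 0, 3, 1, 2, 0, 4, 0, 4, 4, 1, 4, 4, 2, 0, 0, 0, 3, 3, 1, 1, 3, 0, 0, 3, 1, 4, 1, 2, 0, 4], [0, 4, 0, 2, 0, 0, 0, 2, 4, 2, 1, 4, 0, 3, 2, 3, 2, 0, 3, 3, 0, 4, 0, 0, 4, 1, 4, 4, 0, 4, 4, 1, 1, 4, 2, 4, 1, 3, 1, 4, 2, 0, 0, 4, 4, 2, 0, 4, 0, 3, 0], [2, 1, 1, 2, 0, 0, 0, 0, 2, 3, 2, 0, 0, 3, 3, 1, 3, 1, 3, 1, 4, 4, 1, 2, 3, 2, 0, 4, 1, 3, 0, 0, 4, 1, 2, 3, 1, 3, 1, 3, 3, 0, 3, 1, 1, 1, 3, 2, 0, 3, 1, 2, 0, 3, 0, 4, 1, 1, 4, 0, 0, 4, 4], [0,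 4, 4, 2, 0, 4, 1, 1, 2, 3, 3, 0, 2, 1, 3, 2, 1, 3, 2, 1, 3, 3, 1, 4, 1, 1, 1, 3, 0, 3, 3, 0, 4, 1, 4, 1, 1, 3, 3, 1, 3, 0, 4, 1, 4, 1, 3, 1, 1, 3, 0, 0, 3, 1, 4, 1, 2, 0, 4], [4, 0, 0, 3, 3, 3, 3, 1, 4, 1, 1, 1, 3, 0, 3, 3, 0, 0, 4, 1, 4, 0, 0, 0, 3, 2, 1, 4, 0, 3, 1, 2, 0, 3, 0, 4, 1, 1, 4, 0, 0, 4, 4], [0, 4, 0, 3, 2, 1, 3, 2, 0, 0, 3, 3, 1, 2, 1, 1, 1, 1, 3, 3, 1, 4, 0, 3, 0, 0, 0, 0, 2, 1, 3, 3, 2, 0, 3, 0, 3, 0, 4, 1, 2, 1], [4, 0, 0, 2, 0, 4, 1, 4, 1, 1, 2, 4, 4, 2, 0, 0, 0, 3, 2, 4, 1, 2, 0, 3, 0, 4, 1, 1, 4, 0, 0, 0, 0, 4, 0, 3, 3, 2, 0, 0, 3, 1, 1, 3, 0, 0, 3, 1, 2, 0, 3, 0, 4, 1, 1, 4, 0, 0, 4, 4], [4, 0, 0, 3, 3, 3, 2, 1, 1, 1, 2, 1, 4, 2, 1, 4, 0, 3, 2, 0, 4, 1, 3, 0, 4, 2, 1, 1,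 1, 3, 0, 3, 1, 3, 1, 2, 0, 3, 0, 4, 1, 1, 4, 0, 0, 4, 4], [4, 0, 0, 3, 3, 0, 3, 1, 3, 3, 1, 3, 0, 0, 0, 3, 2, 0, 0, 3, 3, 2, 1, 4, 1, 2, 0, 3, 0, 4, 1, 1, 4, 0, 0], [0, 0, 0, 3, 3, 2, 0, 4, 0, 4, 1, 3, 1, 3, 1, 4, 4, 0, 4, 1, 3, 2, 0, 0, 0, 0, 4, 1, 3, 1, 4, 2, 1, 3, 2, 1, 4, 1, 1, 3, 1, 4, 1, 3, 1, 2, 0, 3, 0, 4, 1, 1, 4, 0, 0, 4, 4], [1, 2, 0, 0, 4, 0, 2, 0, 3, 2, 0, 0, 3, 3, 2, 0, 0, 3, 3, 1, 2, 1, 1, 1, 3, 3, 2, 1, 3, 3, 0, 0, 0, 3, 1, 1, 2, 4, 1, 4, 1, 1, 3, 3, 1, 3, 0, 4, 1, 4, 1, 4], [4, 4, 2, 0, 0, 3, 1, 2, 4, 1, 4, 1, 4, 0, 4, 0, 2, 1, 3, 2, 0, 0, 3, 2, 0, 0, 4, 1, 4, 2, 1, 3, 0, 4, 0, 3, 0, 4, 1, 3, 1, 1, 3, 0, 0, 3, 1, 4, 1, 2, 0, 4], [2, 1, 1, 3, 3, 2, 0, 0, 3, 3, 0, 0, 0, 0, 3,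 0, 4, 0, 2, 3, 2, 0, 0, 0, 0, 3, 0, 4, 1, 1, 4, 1, 3, 3, 2, 0, 3, 0, 3, 0, 4, 1, 2, 1, 3, 1, 2, 0, 3, 0, 4, 1, 1, 4, 0, 0, 4, 4]]),
   (0, 0, [5279], [], [[], [0, 4, 2, 1, 3, 1, 2, 0, 0, 0, 4, 0, 2, 0, 0, 0, 0, 0, 3, 3, 1, 4, 1, 1, 1, 3, 0, 3, 3, 0, 0, 3, 0, 4, 0, 0, 3, 0, 4, 2, 0, 3, 2, 0, 4], [0, 0, 4, 4, 2, 1, 4, 0, 2, 0, 3, 2, 0, 0, 3, 3, 2, 0, 4, 0, 2, 1, 3, 2, 0, 0, 3, 2, 0, 3, 1, 4, 2, 1, 3, 2, 1, 4, 1, 1, 3, 1, 4, 1, 3, 1, 2, 0, 3, 0, 4, 1, 1, 4, 0, 0, 4, 4], [0, 0, 0, 2, 1, 1, 3, 2, 1, 1, 4, 4, 0, 4, 4, 1, 4, 2, 1, 4, 0, 3, 2, 0, 4, 0, 0, 4, 0, 2, 1, 3, 2, 0, 0, 3, 2, 0, 4, 4, 1, 4, 4, 2, 1, 3, 3, 0, 0, 3, 1, 4, 1], [4, 0, 0, 3, 2, 1, 1, 4, 0, 0, 3, 0, 4, 0, 2, 1, 1, 1, 1, 4, 1, 3,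 0, 4, 4, 0, 2, 1, 4, 0, 4, 2, 1, 4, 4, 1, 4, 0, 3, 1, 1, 3, 1, 2, 0, 3, 0, 4, 1, 1, 4, 0, 0, 4, 4], [0, 4, 0, 4, 4, 4, 2, 1, 4, 0, 3, 2, 0, 0, 0, 4, 0, 2, 0, 0, 0, 0, 0, 0, 0, 0, 3, 3, 1, 2, 1, 1, 1, 1, 4, 4, 1, 4, 4, 2, 1, 3, 3, 0, 0, 3, 1, 4, 1, 3, 3, 1, 1, 3, 0, 0, 3, 1, 4, 1, 2, 0, 4], [1, 2, 0, 0, 2, 0, 0, 0, 0, 2, 3, 1, 3, 1, 4, 4, 1, 1, 3, 0, 0, 0, 3, 3, 1, 3, 1, 4, 0, 3, 0, 0, 0, 3, 0, 4, 2, 1, 1, 1, 3, 0, 3, 1, 3, 3, 1, 1, 3, 0, 0, 3, 1, 4, 1, 2, 0, 4], [2, 1, 1, 2, 0, 0, 0, 0, 0, 4, 1, 4, 1, 1, 1, 1, 4, 1, 4, 1, 3, 0, 0, 3, 1, 1, 4, 0, 3, 1, 4, 2, 1, 3, 0, 4, 2, 1, 1, 1, 3, 0, 3, 1, 3, 3, 1, 1, 3, 0, 0, 3, 1, 4, 1, 2, 0, 4]]),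
   (1, 262637, [], [], []),
   (0, 9, [], [5279, 262637], [[], [2, 0, 0, 3, 2, 3, 2, 1, 1, 1, 2, 4, 1, 4, 1, 4, 1, 1, 3, 3, 1, 4, 0, 3, 0, 0, 0, 3, 0, 4, 2, 1, 1, 1, 3, 0, 3, 1, 3, 3, 1, 1, 3, 0, 0, 3, 1, 4, 1, 2, 0, 4], [0, 2, 0, 3, 2, 1, 1, 1, 1, 3, 1, 3, 1, 4, 4, 1, 2, 4, 1, 2, 0, 3, 0, 4, 1, 1, 4, 0, 0, 4, 4, 1, 4, 4, 2, 1, 3, 3, 0, 0, 3, 1, 4, 1, 3, 1, 2, 0, 3, 0, 4, 1, 1, 4, 0, 0, 4, 4], [2, 0, 0, 3, 2, 4, 2, 1, 3, 0, 3, 2, 4, 2, 0, 4, 1, 3, 3, 1, 2, 3, 2, 0, 0, 3, 3, 1, 3, 0, 4, 2, 1, 4, 4, 1, 4, 0, 3, 1, 1, 3, 3, 1, 1, 3, 0, 0, 3, 1, 4, 1, 2, 0, 4], [3, 0, 3, 0, 3, 0, 0, 0, 0, 4, 0, 2, 0, 0, 0, 0, 0, 4, 1, 4, 0, 0, 0, 3, 2, 1, 4, 0, 3, 0, 4, 2, 1, 1, 1, 3, 0, 3, 1, 3, 3, 1, 1, 3, 0,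 0, 3, 1, 4, 1, 2, 0, 4], [3, 3, 2, 1, 4, 0, 2, 0, 0, 2, 1, 4, 4, 2, 1, 1, 2, 0, 4, 0, 4, 0, 0, 3, 0, 0, 4, 2, 3, 0, 3, 1, 4, 1, 3, 1, 4, 0, 3, 2, 0, 3, 1], [0, 2, 0, 2, 0, 4, 1, 1, 2, 4, 1, 4, 2, 0, 0, 0, 3, 1, 3, 0, 4, 1, 4, 0, 0, 0, 3, 2, 1, 4, 0, 0, 2, 1, 3, 3, 2, 0, 3, 0, 3, 0, 4, 1, 2, 1], [3, 3, 2, 0, 4, 1, 1, 2, 4, 4, 0, 0, 3, 0, 4, 0, 0, 4, 1, 4, 1, 3, 3, 2, 1, 1, 4, 2, 1], [0, 2, 0, 2, 1, 4, 4, 0, 2, 3, 0, 0, 0, 3, 3, 1, 4, 0, 2, 0, 0, 4, 0, 4, 1, 3, 1, 3, 3, 2, 3, 0, 3, 1, 4, 1, 3, 1, 4, 0, 3, 2, 0, 3, 1], [4, 2, 1, 3, 0, 3, 2, 4, 1, 4, 2, 0, 0, 0, 3, 1, 3, 0, 3, 2, 0, 0, 3, 3, 1, 3, 3, 0, 2, 4, 1, 3, 1, 4, 2, 0, 0, 4, 4, 2, 0, 4, 0, 3, 0, 3, 1, 2, 0, 3, 0, 4, 1, 1, 4, 0, 0, 4, 4],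 [2, 0, 0, 3, 2, 0, 3, 1, 3, 3, 1, 3, 0, 0, 2, 1, 1, 4, 1, 4, 1, 3, 0, 0, 0, 4, 1, 3, 2, 0, 0, 0, 0, 4, 4, 1, 4, 2, 1, 3, 0, 4, 0, 3, 0, 4, 1, 4], [3, 3, 3, 0, 3, 0, 2, 1, 4, 0, 3, 2, 0, 4, 4, 1, 4, 0, 0, 0, 3, 2, 1, 4, 0, 0, 0, 3, 0, 4, 0, 0, 3, 0, 4, 2, 0, 3, 2, 0, 4]]),
   (0, 4, [4203377, 5279], [], [[]]),
   (0, 18, [262637], [5279], [[]]),
   (0, 1, [267634, 786999], [], [[]]),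
   (0, 2, [786999, 5279], [], [[]]),
   (0, 3, [262637, 10558], [], [[]]),
   (0, 7, [262637], [], [[]]),
   (0, 10, [5279, 18147], [], [[]]),
   (0, 11, [10558, 36294], [], [[]]),
   (0, 12, [5279], [], [[]]),
   (0, 13, [10558], [], [[]]),
   (0, 14, [18147], [], [[]]),
   (0, 15, [36294], [], [[]]),
   (0, 16, [69395], [], [[]]),
   (0, 17, [133817], [], [[]]),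
   (0, 19, [525274], [], [[]]),
   (0, 20, [1050548], [], [[]]),
   (0, 21, [2101096], [], [[]]),
   (0, 22, [4196943], [], [[]]),
   (0, 23, [], [], [[]])]

def pairProgO0 : List (ℕ × ℕ × List ℕ × List ℕ × List (List ℕ)) :=
  [(0, 0, [5279], [], [[], [0, 4, 4, 0, 2, 1, 4, 4, 2, 1, 4, 2, 0, 4, 1, 3, 3, 1, 2, 4, 1, 4, 1, 3, 3, 2, 1, 1, 4, 2, 1, 2, 1, 4, 0, 4, 2, 1, 4, 4, 1, 4, 0, 3, 1, 1, 3, 1, 2, 0, 3, 0, 4, 1, 1, 4, 0, 0, 4, 4], [0, 0, 3, 2, 1, 3, 2, 4, 2, 1, 4, 0, 3, 2, 3, 3, 0, 2, 1, 3, 2, 1, 3, 2, 1, 3, 1, 3, 1, 3, 3, 0, 3, 1, 1, 1, 3, 2, 0, 3, 3, 1, 1, 3, 0, 0, 3, 1, 4, 1, 2, 0, 4], [0, 0, 0, 2, 0, 4, 4, 1, 2, 0, 3, 3, 1, 2, 1, 1, 3, 3, 0, 2, 1, 3, 2, 1, 3, 2, 1, 3, 3, 2, 1, 3, 3, 0, 0,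 0, 3, 1, 1, 2, 4, 1, 3, 1, 4, 2, 0, 0, 4, 4, 2, 0, 4, 0, 3, 0], [4, 0, 0, 3, 2, 1, 3, 0, 0, 3, 1, 2, 4, 1, 4, 4, 1, 1, 4, 0, 4, 2, 0, 4, 1, 4, 0, 4, 2, 1, 4, 4, 1, 4, 0, 3, 1, 1, 3, 1, 2, 0, 3, 0, 4, 1, 1, 4, 0, 0, 4, 4], [0, 4, 0, 3, 2, 1, 3, 2, 0, 3, 1, 3, 3, 1, 3, 0, 0, 0, 0, 0, 3, 3, 1, 2, 1, 1, 1, 1, 2, 1, 3, 3, 2, 0, 3, 0, 3, 0, 4, 1, 2, 1, 3, 3, 1, 1, 3, 0, 0, 3, 1, 4, 1, 2, 0, 4], [1, 2, 0, 0, 3, 2, 1, 3, 2, 0, 3, 3, 1, 2, 1, 1, 4, 4, 2, 0, 0, 0, 3, 2, 3, 3, 1, 4, 1, 1, 1, 3, 0, 3, 3, 0, 2, 1, 4, 0, 4, 2, 1, 4, 4, 1, 4, 0, 3, 1, 1], [2, 1, 1, 3, 3, 2, 1, 1, 4, 1, 1, 2, 1, 4, 2, 1, 4, 0, 3, 2, 0, 2, 0, 0, 3, 3, 1, 3, 3, 0, 2, 3, 1, 2, 0, 4, 0, 4, 4, 1, 4, 4, 2, 0, 0, 0, 3, 3, 1, 1, 3,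 0, 0, 3, 1, 4, 1, 2, 0, 4]]),
   (0, 5, [], [1009728, 5279], [[], [3, 3, 2, 1, 3, 0, 2, 1, 4, 2, 1, 4, 0, 3, 2, 0, 4, 0, 0, 0, 2, 1, 4, 4, 2, 1, 1, 1, 3, 1, 4, 2, 1, 3, 2, 1, 4, 1, 1, 3, 1, 4, 1, 3, 3, 1, 1, 3, 0, 0, 3, 1, 4, 1, 2, 0, 4], [4, 2, 1, 1, 4, 1, 1, 2, 4, 1, 4, 2, 0, 0, 0, 3, 1, 3, 0, 3, 2, 0, 4, 1, 3, 0, 0, 4, 1, 2, 4, 1, 4, 1, 1, 3, 3, 1, 3, 0, 4, 1, 4, 1, 1, 2, 0, 3, 0, 4, 1, 1, 4, 0, 0, 4, 4], [0, 3, 1, 3, 3, 1, 3, 0, 0, 3, 2, 0, 4, 1, 3, 0, 0, 4, 1, 2, 3, 1, 3, 1, 3, 3, 0, 3, 1, 1, 1, 3, 2, 0, 3, 3, 1, 1, 3, 0, 0, 3, 1, 4, 1, 2, 0, 4], [4, 4, 0, 3, 1, 3, 3, 1, 3, 0, 0, 0, 0, 2, 1, 4, 4, 2, 1, 1, 1, 3, 3, 1, 4, 0, 3, 0, 0, 0, 0, 4, 1, 3, 1, 4, 2, 0, 0, 4, 4, 2, 0, 4, 0, 3, 0,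 3, 1, 2, 0, 3, 0, 4, 1, 1, 4, 0, 0, 4, 4], [4, 4, 2, 1, 4, 4, 0, 2, 3, 3, 0, 2, 1, 3, 2, 1, 3, 2, 1, 2, 1, 4, 4, 0, 4, 4, 1, 1, 4, 2, 3, 1, 4, 2, 1, 3, 2, 1, 4, 1, 1, 3, 1, 4, 1, 3, 3, 1, 1, 3, 0, 0, 3, 1, 4, 1, 2, 0, 4], [3, 0, 3, 0, 3, 0, 0, 3, 2, 0, 0, 3, 3, 2, 1, 3, 1, 3, 1, 3, 3, 0, 3, 1, 1, 1, 3, 2, 0, 3, 3, 1, 1, 3, 0, 0, 3, 1, 4, 1, 2, 0, 4], [2, 0, 3, 2, 3, 0, 3, 0, 3, 0, 2, 1, 3, 1, 3, 1, 4, 1, 1, 4, 0, 3, 1, 4, 1, 4, 0, 4, 2, 1, 4, 4, 1, 4, 0, 3, 1, 1, 3, 1, 2, 0, 3, 0, 4, 1, 1, 4, 0, 0, 4, 4]]),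
   (0, 6, [1009728], [], [[], [3, 1, 3, 1, 3, 1, 4, 0, 3, 3, 3, 1, 4, 0, 3, 0, 0, 0, 0, 0, 3, 0, 4, 0, 0, 3, 0, 4, 2, 0, 3, 2, 0, 4], [3, 3, 2, 1, 3, 0, 2, 0, 0, 2, 1, 4, 4, 2, 1, 1, 2, 1, 4, 4, 0, 4, 4, 1, 1, 4, 2, 0, 0, 4, 0, 3, 3, 2, 0, 0, 3, 1, 1, 3, 0, 0, 3, 3, 1, 1, 3, 0, 0, 3, 1, 4, 1, 2, 0, 4], [4, 4, 0, 3, 1, 3, 3, 1, 3, 0, 0, 0, 0, 2, 1, 4, 4, 2, 1, 1, 1, 3, 3, 1, 4, 0, 3, 0, 0, 0, 0, 0, 4, 1, 4, 0, 0, 0, 3, 2, 1, 4, 0, 3, 1, 2, 0, 3, 0, 4, 1, 1, 4, 0, 0, 4, 4], [0, 3, 1, 3, 3, 1, 3, 0, 0, 0, 0, 0, 4, 0, 2, 0, 0, 0, 0, 0, 4, 1, 4, 0, 0, 0, 3, 2, 1, 4, 0, 0], [2, 1, 3, 2, 0, 3, 3, 1, 2, 1, 1, 2, 0, 4, 4, 0, 3, 1, 3, 2, 4, 1, 2, 0, 3, 0, 4, 1, 1, 4, 0, 0, 2, 1, 4, 0, 4, 2, 1, 4, 4,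 1, 4, 0, 3, 1, 1], [2, 0, 0, 3, 2, 4, 2, 1, 4, 0, 3, 1, 1, 4, 1, 4, 1, 3, 0, 2, 0, 0, 4, 0, 2, 1, 3, 2, 0, 0, 3, 2, 0, 2, 1, 3, 3, 2, 0, 3, 0, 3, 0, 4, 1, 2, 1], [0, 2, 0, 2, 1, 4, 4, 0, 2, 0, 3, 2, 0, 0, 3, 3, 2, 1, 2, 0, 3, 1, 1, 4, 0, 3, 1, 4, 2, 4, 1, 4, 1, 1, 3, 3, 1, 3, 0, 4, 1, 4, 1, 1, 2, 0, 3, 0, 4, 1, 1, 4, 0, 0, 4, 4]]),
   (0, 1, [5279], [], [[], [4, 4, 2, 0, 4, 1, 4, 1, 1, 2, 3, 2, 0, 3, 3, 0, 4, 0, 0, 4, 2, 3, 3, 1, 4, 1, 1, 1, 3, 0, 3, 3, 0, 2, 1, 3, 3, 2, 0, 3, 0, 3, 0, 4, 1, 2, 1, 3, 3, 1, 1, 3, 0, 0, 3, 1, 4, 1, 2, 0, 4], [2, 0, 3, 2, 4, 2, 1, 4, 0, 3, 2, 4, 1, 3, 1, 3, 1, 4, 0, 3, 0, 4, 1, 4, 0, 0, 0, 3, 2, 1, 4, 0, 3, 0, 4, 2, 1, 1, 1, 3, 0, 3, 1], [3, 3, 0, 0, 2, 1, 4,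 4, 2, 1, 1, 2, 1, 4, 4, 0, 4, 4, 1, 1, 4, 2], [2, 1, 3, 0, 0, 3, 1, 1, 1, 4, 1, 4, 1, 3, 0, 2, 1, 1, 1, 1, 4, 1, 3, 0, 4, 4, 0, 4, 1, 3, 1, 4, 2, 0, 0, 4, 4, 2, 0, 4, 0, 3, 0, 3, 3, 1, 1, 3, 0, 0, 3, 1, 4, 1, 2, 0, 4], [2, 0, 0, 3, 2, 4, 2, 1, 4, 0, 3, 2, 1, 4, 2, 1, 4, 0, 3, 2, 0, 4, 1, 1, 1, 1, 4, 1, 3, 0, 4, 4, 0, 3, 1, 2, 0, 4, 0, 4, 4, 1, 4, 4, 2, 0, 0, 0, 3, 3, 1, 1, 3, 0, 0, 3, 1, 4, 1, 2, 0, 4], [0, 2, 0, 0, 3, 3, 1, 2, 3, 3, 1, 2, 1, 1, 1, 2, 0, 4, 0, 4, 0, 0, 3, 0, 0, 4, 2, 1, 3, 0, 4, 2, 1, 1, 1, 3, 0, 3, 1, 3, 1, 2, 0, 3, 0, 4, 1, 1, 4, 0, 0, 4, 4]]),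
   (1, 352547, [], [], []),
   (0, 11, [1009728], [352547], [[], [3, 0, 3, 0, 3, 0, 0, 0, 0, 4, 0, 2, 0, 0, 0, 0, 0, 4, 1, 4, 0, 0, 0, 3, 2, 1, 4, 0, 3, 0, 4, 2, 1, 1, 1, 3, 0, 3, 1, 3, 3, 1, 1, 3, 0, 0, 3, 1, 4, 1, 2, 0, 4], [4, 2, 1, 3, 0, 3, 2, 4, 1, 4, 2, 0, 0, 0, 3, 1, 3, 0, 3, 2, 0, 0, 3, 3, 1, 3, 3, 0, 2, 4, 1, 3, 1, 4, 2, 0, 0, 4, 4, 2, 0, 4, 0, 3, 0, 3, 1, 2, 0, 3, 0, 4, 1, 1, 4, 0, 0, 4, 4]]),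
   (0, 8, [657763, 352547], [], [[]]),
   (1, 10558, [], [], []),
   (0, 13, [352547, 10558], [], [[]]),
   (0, 2, [10558, 45159], [], [[]]),
   (0, 3, [10558, 262637], [], [[]]),
   (0, 4, [10558], [], [[]]),
   (0, 7, [262637, 5279], [], [[]]),
   (0, 9, [133817, 18147], [], [[]]),
   (0, 10, [5279, 18147], [], [[]]),
   (0, 12, [5279], [], [[]]),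
   (0, 14, [18147], [], [[]]),
   (0, 15, [36294], [], [[]]),
   (0, 16, [69395], [], [[]]),
   (0, 17, [133817], [], [[]]),
   (0, 18, [352547], [], [[]]),
   (0, 19, [1009728], [], [[]]),
   (0, 20, [1050548], [], [[]]),
   (0, 21, [2101096], [], [[]]),
   (0, 22, [4196943], [], [[]]),
   (0, 23, [], [], [[]])]

def pairProgO2 : List (ℕ × ℕ × List ℕ × List ℕ × List (List ℕ)) :=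
  [(0, 5, [], [31554, 5279], [[], [0, 0, 0, 2, 1, 1, 3, 2, 1, 1, 4, 4, 0, 4, 0, 0, 0, 3, 2, 1, 1, 1, 3, 0, 3, 1, 3, 3, 1, 1, 3, 0, 0, 3, 1, 4, 1, 2, 0, 4], [1, 2, 0, 0, 4, 0, 2, 0, 2, 1, 1, 4, 1, 4, 2, 4, 4, 2, 0, 0, 0, 3, 2, 3, 3, 1, 1, 3, 0, 0, 3, 1, 4, 1, 2, 0, 4], [0, 4, 0, 2, 0, 3, 0, 2, 4, 4, 0, 0, 3, 0, 4, 0, 0, 4, 1, 4, 0, 0, 0, 3, 2, 1, 4, 0, 0, 3, 1, 3, 1, 3, 3, 0, 3, 1, 1, 1, 3, 2, 0, 3, 3, 1, 1, 3, 0, 0, 3, 1, 4, 1, 2, 0, 4], [0, 2, 0, 3, 2, 1, 1, 1, 2, 4, 1, 3, 1, 3, 1, 4, 0, 3, 0, 2, 1, 3, 3, 2, 0, 3, 0, 3, 0, 4, 1, 2, 1, 3, 3, 1, 1, 3, 0, 0, 3, 1, 4, 1, 2, 0, 4], [4, 0, 0, 3, 3, 0, 2, 0, 0, 3, 3, 1, 2, 1, 1, 4, 4, 2, 0, 0, 0, 3, 2, 3, 3, 1, 4, 1, 1, 1, 3, 0, 3, 3, 0, 3, 0, 3,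 1, 4, 1, 3, 1, 4, 0, 3, 2, 0, 3, 1], [0, 0, 0, 2, 1, 1, 3, 2, 1, 1, 4, 4, 0, 4, 4, 4, 4, 0, 0, 3, 0, 4, 0, 3, 3, 1, 4, 0, 3, 0, 0, 0, 0, 3, 0, 3, 1, 4, 1, 3, 1, 4, 0, 3, 2, 0, 3, 1, 3, 3, 1, 1, 3, 0, 0, 3, 1, 4, 1, 2, 0, 4], [0, 4, 0, 3, 3, 2, 0, 0, 3, 3, 2, 4, 1, 3, 1, 3, 1, 4, 0, 3, 0, 2, 0, 4, 0, 4, 0, 0, 3, 0, 0, 4, 2, 1, 1, 1, 3, 3, 2, 0, 3, 3, 1, 3, 1, 2, 0, 3, 1, 1, 3, 0, 0, 3, 1, 4, 1, 2, 0, 4], [0, 4, 0, 3, 3, 2, 0, 0, 3, 3, 2, 4, 4, 0, 0, 3, 0, 4, 0, 0, 2, 1, 4, 4, 0, 4, 4, 1, 1, 4, 2, 3, 1, 2, 0, 4, 0, 4, 4, 1, 4, 4, 2, 0, 0, 0, 3, 3, 1, 1, 3, 0, 0, 3, 1, 4, 1, 2, 0, 4], [0, 0, 2, 0, 0, 2, 3, 2, 0, 0, 3, 3, 2, 4, 1, 4, 1, 4, 0, 0, 2, 1, 4, 4, 2, 1, 1, 1, 4, 4, 1, 4, 4, 2, 1, 3, 3,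 0, 0, 3, 1, 4, 1, 3, 3, 1, 1, 3, 0, 0, 3, 1, 4, 1, 2, 0, 4]]),
   (0, 15, [], [31554, 5279], [[], [0, 4, 0, 2, 0, 0, 0, 0, 3, 1, 2, 3, 3, 0, 2, 1, 3, 2, 1, 3, 2, 0, 0, 3, 3, 1, 2, 1, 1, 4, 0, 3, 3, 2, 0, 0, 3, 1, 1, 3, 0, 0], [1, 2, 0, 0, 4, 0, 2, 0, 2, 1, 1, 4, 1, 4, 2, 4, 4, 2, 0, 0, 0, 3, 2, 0, 0, 4, 0, 2, 1, 3, 2, 0, 0, 3, 2, 0, 2, 1, 3, 3, 2, 0, 3, 0, 3, 0, 4, 1, 2, 1], [1, 2, 0, 0, 4, 0, 2, 0, 2, 0, 4, 1, 4, 1, 1, 2, 1, 3, 0, 4, 4, 1, 1, 1, 4, 2, 0, 0, 4, 0, 4, 1, 3, 1, 3, 3, 2, 3, 1, 4, 2, 1, 3, 2, 1, 4, 1, 1, 3, 1, 4, 1, 3, 3, 1, 1, 3, 0, 0, 3, 1, 4, 1, 2, 0, 4], [0, 0, 2, 0, 0, 3, 0, 4, 1, 4, 1, 1, 2, 0, 0, 0, 4, 0, 2, 0, 0, 0, 0, 0, 4, 1, 4, 1, 3, 3, 2, 1, 1, 4, 2, 1, 2, 1, 4, 0,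 4, 2, 1, 4, 4, 1, 4, 0, 3, 1, 1, 3, 3, 1, 1, 3, 0, 0, 3, 1, 4, 1, 2, 0, 4], [3, 0, 3, 0, 3, 0, 3, 2, 0, 4, 1, 3, 0, 0, 4, 1, 2, 3, 0, 3, 1, 4, 1, 3, 1, 4, 0, 3, 2, 0, 3, 1, 3, 3, 1, 1, 3, 0, 0, 3, 1, 4, 1, 2, 0, 4], [0, 0, 0, 4, 0, 2, 0, 2, 0, 4, 1, 4, 1, 1, 2, 4, 1, 3, 1, 3, 1, 4, 0, 3, 0, 2, 1, 4, 4, 0, 4, 4, 1, 1, 4, 1, 4, 0, 4, 2, 1, 4, 4, 1, 4, 0, 3, 1, 1], [4, 0, 0, 4, 2, 1, 4, 0, 2, 1, 4, 2, 1, 4, 0, 3, 2, 0, 4, 4, 1, 4, 0, 0, 0, 3, 2, 1, 4, 0, 0, 4, 4, 1, 4, 4, 2, 1, 3, 3, 0, 0, 3, 1, 4, 1], [0, 4, 0, 2, 0, 3, 0, 2, 4, 4, 0, 0, 3, 0, 4, 0, 0, 2, 0, 0, 4, 0, 4, 1, 3, 1, 3, 3, 2, 3, 3, 1, 1, 3, 0, 0, 3, 1, 4, 1, 2, 0, 4]]),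
   (0, 1, [31554, 5279], [], [[], [0, 2, 0, 2, 1, 4, 4, 0, 2, 3, 0, 0, 0, 3, 3, 1, 4, 0, 0, 0, 0, 2, 1, 4, 4, 2, 1, 1, 1, 4, 1, 3, 1, 4, 2, 0, 0, 4, 4, 2, 0, 4, 0, 3, 0, 3, 3, 1, 1, 3, 0, 0, 3, 1, 4, 1, 2, 0, 4]]),
   (0, 12, [31554, 5279], [], [[]]),
   (1, 42232, [], [], []),
   (0, 3, [5279, 42232], [], [[], [4, 1, 4, 1, 4, 1, 3, 1, 2, 0, 4, 0, 4, 4, 1, 4, 4, 2, 0, 0, 0], [0, 0, 2, 0, 0, 0, 4, 1, 4, 1, 1, 2, 1, 4, 2, 1, 4, 0, 3, 2, 0, 4, 0, 3, 0, 4, 1, 1, 4, 0, 4, 2, 0, 4, 2, 4, 4, 1, 4, 4, 2, 1, 3, 3, 0, 0, 3, 1, 4, 1], [0, 0, 2, 0, 0, 0, 4, 1, 4, 1, 1, 1, 1, 4, 1, 4, 1, 3, 0, 2, 4, 1, 2, 0, 3, 0, 4, 1, 1, 4, 0, 0, 4, 4, 1, 4, 4, 2, 1, 3, 3, 0, 0, 3, 1, 4, 1]]),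
   (0, 4, [692282, 5279], [], [[]]),
   (1, 10558, [], [], []),
   (0, 0, [5279], [42232, 10558], [[]]),
   (0, 2, [5279, 10558], [], [[]]),
   (0, 6, [45159, 21116], [], [[]]),
   (0, 7, [5279, 99029], [], [[]]),
   (0, 8, [39257, 168928], [], [[]]),
   (0, 9, [21116, 72588], [], [[]]),
   (0, 10, [5279], [], [[]]),
   (0, 11, [36294], [], [[]]),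
   (0, 13, [42232], [], [[]]),
   (0, 14, [31554], [], [[]]),
   (0, 16, [69395], [], [[]]),
   (0, 17, [133817], [], [[]]),
   (0, 18, [262637], [], [[]]),
   (0, 19, [525274], [], [[]]),
   (0, 20, [1050548], [], [[]]),
   (0, 21, [2101096], [], [[]]),
   (0, 22, [4196943], [], [[]]),
   (0, 23, [], [], [[]])]

def pairProgO4 : List (ℕ × ℕ × List ℕ × List ℕ × List (List ℕ)) :=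
  [(0, 6, [], [10558, 5279], [[], [1, 2, 0, 0, 4, 4, 0, 2, 0, 4, 2, 1, 4, 0, 3, 1, 3, 1, 3, 1, 4, 4, 1, 2, 4, 1, 2, 0, 3, 0, 4, 1, 1, 4, 1, 3, 3, 2, 0, 3, 3, 1, 3, 1, 2, 0, 3, 1, 1, 3, 0, 0, 3, 1, 4, 1, 2, 0, 4], [2, 0, 3, 1, 4, 0, 2, 4, 4, 0, 0, 3, 0, 4, 0, 0, 0, 0, 0, 3, 3, 1, 2, 1, 1, 1, 1, 3, 1, 4, 2, 1, 3, 2, 1, 4, 1, 1, 3, 1, 4, 1, 3, 1, 2, 0, 3, 0, 4, 1, 1, 4, 0, 0, 4, 4], [4, 4, 0, 3, 1, 3, 3, 1, 3, 0, 0, 0, 0, 2, 1, 4, 4, 2, 1, 1, 2, 0, 3, 1, 1, 4, 0, 3, 1, 4, 2, 1, 1, 1, 3, 3, 2, 0, 3, 3, 1, 3, 3, 0, 4, 1, 1, 4, 0, 0, 4, 4], [0, 4, 0, 3, 2, 1, 3, 2, 3, 2, 1, 3, 1, 1, 3, 1, 3, 1, 4, 4, 1, 2, 3, 2, 0, 4, 1, 3, 0, 0, 4, 1, 2, 0, 4, 1, 4, 0, 0, 0, 3, 2, 1, 4, 0, 3, 1, 2, 0, 3, 0, 4, 1,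 1, 4, 0, 0, 4, 4], [1, 2, 0, 0, 4, 4, 0, 2, 0, 0, 2, 1, 4, 4, 2, 1, 2, 1, 1, 4, 1, 4, 1, 3, 0, 0, 0, 4, 0, 4, 1, 3, 1, 3, 3, 2, 0, 0, 4, 0, 3, 3, 2, 0, 0, 3, 1, 1, 3, 0, 0], [1, 2, 0, 0, 4, 0, 2, 0, 2, 0, 4, 1, 4, 1, 1, 2, 1, 3, 0, 4, 4, 1, 1, 1, 4, 2, 0, 0, 4, 0, 4, 1, 3, 1, 3, 3, 1, 4, 0, 4, 2, 1, 4, 4, 1, 4, 0, 3, 1, 1], [3, 3, 3, 0, 3, 0, 3, 0, 2, 0, 0, 4, 1, 3, 2, 0, 0, 0, 0, 4, 1, 2, 1, 3, 3, 2, 0, 3, 0, 3, 0, 4, 1, 2, 1, 3, 3, 1, 1, 3, 0, 0, 3, 1, 4, 1, 2, 0, 4], [0, 4, 0, 4, 4, 2, 1, 4, 0, 2, 0, 0, 0, 4, 0, 2, 0, 0, 0, 0, 0, 2, 0, 4, 0, 4, 0, 0, 3, 0, 0, 4, 1, 4, 0, 4, 2, 1, 4, 4, 1, 4, 0, 3, 1, 1, 3, 1, 2, 0, 3, 0, 4, 1, 1, 4, 0, 0, 4, 4], [0, 4, 0, 2, 0, 0, 0, 4, 0, 4, 2, 0, 0, 3,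 3, 1, 2, 1, 1, 1, 2, 0, 0, 4, 1, 3, 2, 0, 0, 0, 0, 4, 0, 4, 0, 3, 3, 2, 0, 0, 3, 1, 1, 3, 0, 0, 3, 3, 1, 1, 3, 0, 0, 3, 1, 4, 1, 2, 0, 4], [0, 4, 0, 2, 1, 4, 1, 1, 3, 0, 2, 4, 4, 0, 0, 3, 0, 4, 0, 0, 3, 3, 2, 1, 3, 3, 0, 0, 0, 3, 1, 1, 2, 3, 3, 1, 1, 3, 0, 0, 3, 1, 4, 1, 2, 0, 4], [0, 4, 0, 3, 2, 1, 3, 2, 3, 2, 1, 3, 1, 1, 3, 1, 3, 1, 4, 4, 1, 2, 3, 2, 0, 4, 1, 3, 0, 0, 4, 1, 1, 3, 3, 2, 0, 3, 0, 3, 0, 4, 1, 2, 1, 3, 3, 1, 1, 3, 0, 0, 3, 1, 4, 1, 2, 0, 4]]),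
   (0, 0, [5279], [10558], [[], [0, 4, 0, 2, 0, 3, 3, 1, 3, 1, 4, 4, 1, 2, 1, 1, 1, 1, 4, 1, 3, 0, 4, 4, 0, 2, 1, 4, 0, 4, 2, 1, 4, 4, 1, 4, 0, 3, 1, 1, 3, 1, 2, 0, 3, 0, 4, 1, 1, 4, 0, 0, 4, 4], [1, 2, 0, 0, 4, 4, 0, 2, 0, 4, 2, 1, 4, 0, 3, 1, 3, 1, 3, 1, 4, 4, 1, 2, 4, 1, 2, 0, 3, 0, 4, 1, 1, 4, 0, 0, 0, 3, 0, 4, 0, 0, 3, 0, 4, 2, 0, 3, 0, 3, 0, 4, 1, 1, 4, 0, 0, 4, 4], [2, 1, 1, 4, 4, 0, 2, 0, 3, 2, 1, 1, 4, 1, 1, 2, 4, 2, 0, 4, 1, 3, 3, 1, 2, 3, 2, 0, 0, 0, 0, 3, 0, 4, 1, 1, 4, 1, 4, 0, 4, 2, 1, 4, 4, 1, 4, 0, 3, 1, 1]]),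
   (0, 1, [5279, 10558], [], [[], [4, 0, 3, 0, 3, 0, 4, 4, 0, 0, 3, 0, 4, 0, 0, 0, 3, 0, 4, 1, 1, 4, 0, 4, 2, 0, 4, 2, 0, 4, 1, 4, 2, 1, 3, 0, 4, 0, 3, 0, 4, 1, 1, 2, 0, 3, 0, 4, 1, 1, 4, 0, 0, 4, 4], [2, 0, 3, 1, 4, 0, 2, 4, 4, 0, 0, 3, 0, 4, 0, 0, 0, 0, 0, 3, 3, 1, 2, 1, 1, 4, 0, 3, 3, 2, 0, 0, 3, 1, 1, 3, 0, 0, 3, 1, 2, 0, 3, 0, 4, 1, 1, 4, 0, 0, 4, 4], [3, 3, 2, 0, 4, 1, 1, 2, 4, 4, 0, 0, 3, 0, 4, 0, 0, 4, 1, 4, 1, 3, 3, 2, 1, 1, 4, 2, 1]]),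
   (0, 2, [5279, 10558], [], [[], [3, 0, 3, 0, 3, 0, 0, 3, 2, 0, 0, 3, 3, 2, 1, 4, 1, 3, 1, 4, 2, 0, 0, 4, 4, 2, 0, 4, 0, 3, 0, 3, 3, 1, 1, 3, 0, 0, 3, 1, 4, 1, 2, 0, 4], [0, 3, 1, 3, 3, 1, 3, 0, 0, 3, 2, 0, 4, 1, 3, 0, 0, 4, 1, 2, 4, 4, 1, 4, 4, 2, 1, 3, 3, 0, 0, 3, 1, 4, 1, 3, 3, 1, 1, 3, 0, 0, 3, 1, 4, 1, 2, 0, 4]]),
   (0, 3, [5279, 10558], [], [[], [4, 1, 4, 1, 4, 1, 3, 1, 2, 0, 4, 0, 4, 4, 1, 4, 4, 2, 0, 0, 0]]),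
   (0, 4, [5279, 10558], [], [[]]),
   (0, 5, [2162811, 10558], [], [[]]),
   (0, 7, [5279, 262637], [], [[]]),
   (0, 8, [262637, 10558], [], [[]]),
   (0, 9, [525274, 18147], [], [[]]),
   (0, 10, [5279, 18147], [], [[]]),
   (0, 11, [10558, 36294], [], [[]]),
   (0, 12, [5279], [], [[]]),
   (0, 13, [10558], [], [[]]),
   (0, 14, [18147], [], [[]]),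
   (0, 15, [36294], [], [[]]),
   (0, 16, [69395], [], [[]]),
   (0, 17, [133817], [], [[]]),
   (0, 18, [262637], [], [[]]),
   (0, 19, [525274], [], [[]]),
   (0, 20, [1050548], [], [[]]),
   (0, 21, [2101096], [], [[]]),
   (0, 22, [4196943], [], [[]]),
   (0, 23, [], [], [[]])]

def pairProgD : List (ℕ × ℕ × List ℕ × List ℕ × List (List ℕ)) :=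
  [(0, 0, [340831], [], [[], [0, 3, 2, 1, 3, 2, 4, 2, 1, 4, 0, 3, 2, 0, 0, 3, 3, 1, 2, 1, 1, 1, 3, 3, 1, 4, 1, 1, 1, 3, 0, 3, 3, 0, 3, 1, 3, 1, 3, 3, 0, 3, 1, 1, 1, 3, 2, 0], [0, 0, 2, 0, 0, 0, 4, 1, 4, 1, 1, 1, 3, 1, 3, 1, 4, 4, 1, 2, 3, 2, 0, 0, 0, 0, 3, 0, 4, 1, 1, 4, 2, 0, 4, 1, 4, 2, 1, 3, 0, 4, 0, 3, 0, 4, 1, 3, 1, 1, 3, 0, 0, 3, 1, 4, 1, 2, 0, 4], [0, 0, 0, 2, 0, 4, 4, 1, 2, 1, 1, 4, 4, 0, 4, 4, 0, 3, 2, 0, 0, 3, 3, 2, 1, 3, 2, 0, 0, 3, 3, 1, 3, 0, 4, 2, 1, 4, 4, 1, 4, 0, 3, 1, 1, 3, 1, 2, 0, 3, 0, 4, 1, 1, 4, 0, 0, 4, 4], [4, 0, 0, 3, 2, 1, 1, 4, 1, 1, 2, 0, 3, 2, 0, 0, 3, 3, 2, 1, 2, 0, 3, 1, 1, 4, 0, 3, 1, 4, 1, 4, 0, 4, 2, 1, 4, 4, 1, 4, 0, 3, 1, 1, 3, 3, 1, 1, 3, 0, 0, 3, 1, 4,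 1, 2, 0, 4], [4, 0, 0, 2, 0, 3, 2, 1, 1, 1, 2, 4, 1, 4, 2, 0, 0, 0, 3, 1, 3, 0, 0, 0, 0, 3, 3, 1, 2, 1, 1, 1, 1, 3, 1, 3, 1, 3, 3, 0, 3, 1, 1, 1, 3, 2, 0], [0, 0, 4, 0, 3, 3, 1, 3, 1, 4, 4, 0, 4, 0, 2, 0, 0, 0, 0, 0, 3, 3, 2, 1, 3, 3, 0, 0, 0, 3, 1, 1, 2, 0, 3, 0, 4, 0, 0, 3, 0, 4, 2, 0, 3, 2, 0, 4], [2, 1, 4, 2, 1, 2, 0, 0, 0, 4, 2, 0, 0, 2, 1, 4, 4, 2, 1, 1, 3, 3, 1, 4, 1, 1, 1, 3, 0, 3, 3, 0, 0, 0, 4, 0, 3, 3, 2, 0, 0, 3, 1, 1, 3, 0, 0, 3, 3, 1, 1, 3, 0, 0, 3, 1, 4, 1, 2, 0, 4], [2, 1, 1, 2, 1, 4, 1, 1, 1, 4, 1, 4, 2, 1, 4, 2, 1, 4, 0, 3, 2, 0, 4, 4, 1, 4, 0, 0, 0, 3, 2, 1, 4, 0, 0, 0, 3, 0, 4, 0, 0, 3, 0, 4, 2, 0, 3, 2, 0, 4], [1, 3, 1, 2, 1, 4, 0, 0, 3, 1, 2, 1, 4, 2, 1, 4, 0, 3, 2, 0,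 2, 0, 0, 3, 3, 1, 3, 3, 0, 2, 4, 1, 4, 1, 1, 3, 3, 1, 3, 0, 4, 1, 4, 1, 4], [1, 1, 3, 0, 2, 1, 1, 3, 1, 1, 4, 1, 4, 2, 4, 1, 4, 1, 4, 1, 2, 0, 4, 0, 4, 0, 0, 3, 0, 0, 4, 2, 0, 4, 1, 4, 2, 1, 3, 0, 4, 0, 3, 0, 4, 1, 1, 2, 0, 3, 0, 4, 1, 1, 4, 0, 0, 4, 4], [3, 0, 2, 1, 3, 2, 0, 3, 3, 1, 2, 1, 1, 2, 0, 0, 0, 0, 3, 0, 4, 0, 2, 0, 3, 0, 4, 1, 1, 4, 0, 4, 2, 0, 4, 2, 3, 1, 4, 2, 1, 3, 2, 1, 4, 1, 1, 3, 1, 4, 1]]),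
   (0, 5, [], [340831], [[], [2, 0, 0, 0, 4, 2, 1, 4, 2, 1, 4, 0, 3, 2, 0, 3, 2, 1, 3, 3, 0, 0, 0, 3, 1, 1, 2, 1, 1, 1, 3, 3, 2, 0, 3, 3, 1, 3, 1, 2, 0, 4], [2, 0, 3, 2, 3, 2, 0, 0, 3, 3, 1, 4, 4, 0, 4, 4, 1, 1, 4, 2, 1, 3, 0, 4, 2, 1, 1, 1, 3, 0, 3, 1, 3, 1, 2, 0, 3, 0, 4, 1, 1, 4, 0, 0, 4, 4], [2, 0, 3, 2, 3, 2, 0, 3, 3, 0, 4, 0, 0, 4, 2, 4, 1, 4, 0, 0, 0, 3, 2, 1, 4, 0, 0], [4, 4, 2, 1, 3, 0, 2, 3, 3, 0, 2, 1, 3, 2, 1, 3, 2, 1, 3, 2, 0, 0, 3, 3, 1, 3, 3, 0, 2, 0, 4, 1, 4, 0, 0, 0, 3, 2, 1, 4, 0], [3, 3, 0, 2, 0, 2, 1, 4, 4, 0, 2, 1, 1, 1, 1, 4, 1, 3, 0, 4, 4, 1, 1, 3, 3, 2, 0, 3, 3, 1, 3, 3, 0, 4, 1, 1, 4, 0, 0, 4, 4], [3, 3, 0, 2, 0, 3, 2, 1, 1, 1, 2, 3, 3, 0, 2, 1, 3, 2, 1, 3, 2, 1, 2,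 0, 4, 0, 4, 0, 0, 3, 0, 0, 4, 2, 3, 1, 2, 0, 4, 0, 4, 4, 1, 4, 4, 2, 0, 0, 0], [0, 3, 0, 3, 0, 4, 1, 3, 1, 3, 1, 4, 0, 3, 0, 4, 1, 2, 0, 3, 0, 4, 1, 1, 4, 0, 0, 0, 4, 1, 4, 0, 0, 0, 3, 2, 1, 4, 0], [4, 0, 2, 0, 2, 0, 0, 0, 4, 2, 4, 2, 1, 1, 1, 3, 3, 2, 4, 1, 4, 1, 3, 3, 2, 1, 1, 4, 2, 1, 4, 1, 4, 1, 1, 3, 3, 1, 3, 0, 4, 1, 4, 1, 1, 2, 0, 3, 0, 4, 1, 1, 4, 0, 0, 4, 4], [3, 3, 0, 2, 0, 0, 3, 3, 1, 2, 1, 3, 2, 0, 0, 3, 3, 2, 1, 1, 3, 3, 1, 4, 0, 3, 0, 0, 0, 0, 3, 3, 1, 1, 3, 0, 0, 3, 1, 4, 1, 2, 0, 4], [3, 3, 0, 3, 1, 3, 3, 1, 3, 0, 0, 0, 3, 0, 4, 1, 1, 4, 0, 4, 2, 0, 4, 2, 3, 0, 3, 1, 4, 1, 3, 1, 4, 0, 3, 2, 0, 3, 1, 3, 1, 2, 0, 3, 0, 4, 1, 1, 4, 0, 0, 4, 4], [3, 0, 2, 0, 0, 3, 3, 1, 2, 1, 1,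 2, 1, 1, 4, 1, 4, 1, 3, 0, 2, 0, 3, 0, 4, 1, 1, 4, 0, 4, 2, 0, 4, 2, 4, 1, 4, 1, 1, 3, 3, 1, 3, 0, 4, 1, 4, 1, 4]]),
   (0, 1, [340831], [], [[], [4, 4, 4, 2, 1, 4, 0, 3, 2, 0, 0, 3, 3, 1, 2, 1, 1, 1, 2, 0, 0, 4, 1, 3, 2, 0, 0, 0, 0, 4, 1, 1, 3, 0, 4, 2, 1, 1, 1, 3, 0, 3, 1], [2, 0, 3, 2, 4, 2, 1, 3, 0, 3, 2, 4, 2, 0, 4, 1, 3, 3, 1, 2, 0, 3, 0, 4, 0, 0, 3, 0, 4, 2, 0, 3, 0, 3, 0, 4, 1, 1, 4, 0, 0, 4, 4], [3, 2, 1, 4, 0, 3, 2, 3, 3, 0, 2, 1, 3, 2, 1, 3, 2, 1, 4, 1, 4, 1, 3, 3, 2, 1, 1, 4, 2, 1, 2, 1, 3, 3, 2, 0, 3, 0, 3, 0, 4, 1, 2, 1, 3, 1, 2, 0, 3, 0, 4, 1, 1, 4, 0, 0, 4, 4], [1, 3, 1, 4, 4, 2, 1, 4, 4, 2, 1, 1, 3, 2, 0, 4, 1, 3, 0, 0, 4, 1, 2, 4, 1, 3, 1, 4, 2, 0, 0, 4, 4, 2, 0, 4, 0, 3,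 0, 3, 3, 1, 1, 3, 0, 0, 3, 1, 4, 1, 2, 0, 4], [3, 0, 2, 0, 2, 1, 4, 4, 0, 2, 4, 2, 1, 1, 1, 3, 3, 2, 3, 3, 2, 1, 3, 3, 0, 0, 0, 3, 1, 1, 1, 4, 0, 4, 2, 1, 4, 4, 1, 4, 0, 3, 1, 1, 3, 1, 2, 0, 3, 0, 4, 1, 1, 4, 0, 0, 4, 4], [4, 0, 2, 4, 2, 1, 4, 0, 3, 2, 0, 4, 2, 0, 3, 1, 1, 4, 0, 3, 1, 4, 1, 4, 0, 4, 2, 1, 4, 4, 1, 4, 0, 3, 1, 1, 3, 1, 2, 0, 3, 0, 4, 1, 1, 4, 0, 0, 4, 4], [0, 2, 0, 3, 2, 1, 1, 1, 2, 4, 1, 3, 1, 3, 1, 4, 0, 3, 0, 0, 0, 4, 0, 2, 1, 3, 2, 0, 0, 3, 2, 0, 0, 4, 1, 4, 0, 0, 0, 3, 2, 1, 4, 0, 3, 1, 2, 0, 3, 0, 4, 1, 1, 4, 0, 0, 4, 4], [4, 4, 0, 2, 0, 2, 1, 4, 0, 2, 4, 1, 4, 1, 4, 0, 4, 0, 2, 1, 3, 2, 0, 0, 3, 2, 0, 0, 3, 0, 4, 0, 0, 3, 0, 4, 2, 0, 3, 2, 0, 3, 1, 1, 3, 0, 0, 3, 1, 4,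 1, 2, 0, 4], [3, 3, 0, 2, 0, 4, 4, 2, 0, 0, 0, 3, 0, 4, 0, 4, 0, 0, 3, 0, 0, 4, 2, 3, 0, 3, 1, 4, 1, 3, 1, 4, 0, 3, 2, 0, 3, 1, 3, 3, 1, 1, 3, 0, 0, 3, 1, 4, 1, 2, 0, 4], [3, 3, 2, 1, 1, 4, 1, 1, 2, 0, 0, 2, 1, 4, 4, 2, 1, 1, 3, 2, 0, 4, 1, 3, 0, 0, 4, 1, 2, 4, 4, 1, 4, 4, 2, 1, 3, 3, 0, 0, 3, 1, 4, 1, 3, 3, 1, 1, 3, 0, 0, 3, 1, 4, 1, 2, 0, 4]]),
   (0, 2, [340831], [], [[], [3, 0, 3, 0, 3, 0, 4, 1, 3, 1, 3, 1, 4, 0, 3, 0, 2, 0, 4, 0, 4, 0, 0, 3, 0, 0, 4, 2, 1, 1, 1, 3, 3, 2, 0, 3, 3, 1, 3, 3, 0, 4, 1, 1, 4, 0, 0, 4, 4], [0, 3, 1, 3, 3, 1, 3, 0, 0, 0, 0, 0, 4, 0, 2, 0, 0, 0, 0, 0, 4, 1, 4, 1, 3, 3, 2, 1, 1, 4, 2, 1, 3, 0, 3, 1, 4, 1, 3, 1, 4, 0, 3, 2, 0, 3, 1], [3, 2, 1, 1, 4, 1, 1, 1, 3, 1,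 3, 1, 4, 4, 1, 2, 4, 1, 4, 0, 0, 0, 3, 2, 1, 4, 0, 0, 4, 1, 4, 1, 1, 3, 3, 1, 3, 0, 4, 1, 4, 1, 1, 2, 0, 3, 0, 4, 1, 1, 4, 0, 0, 4, 4], [2, 0, 0, 0, 4, 2, 3, 2, 0, 3, 3, 0, 4, 0, 0, 4, 1, 4, 4, 0, 4, 4, 1, 1, 4, 2, 0, 4, 1, 4, 0, 0, 0, 3, 2, 1, 4, 0], [3, 1, 3, 1, 4, 4, 0, 4, 0, 2, 0, 0, 0, 0, 0, 2, 0, 0, 4, 0, 4, 1, 3, 1, 3, 3, 2, 3, 1, 4, 2, 1, 3, 2, 1, 4, 1, 1, 3, 1, 4, 1, 3, 1, 2, 0, 3, 0, 4, 1, 1, 4, 0, 0, 4, 4], [4, 2, 1, 4, 0, 3, 2, 0, 0, 0, 3, 3, 1, 2, 1, 1, 1, 4, 1, 4, 0, 0, 0, 3, 2, 1, 4, 0, 3, 3, 1, 1, 3, 0, 0, 3, 1, 4, 1, 2, 0, 4], [2, 1, 3, 0, 0, 4, 4, 0, 3, 1, 3, 2, 0, 3, 0, 4, 1, 1, 4, 0, 4, 2, 0, 4, 2, 3, 1, 3, 1, 3, 3, 0, 3, 1, 1, 1, 3, 2, 0, 3, 3, 1, 1, 3, 0, 0, 3, 1, 4, 1,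 2, 0, 4], [2, 0, 4, 1, 4, 1, 1, 2, 4, 1, 4, 2, 0, 0, 0, 3, 1, 3, 0, 3, 3, 2, 1, 3, 3, 0, 0, 0, 3, 1, 1, 1, 3, 3, 2, 0, 3, 0, 3, 0, 4, 1, 2, 1], [2, 0, 4, 1, 1, 2, 4, 4, 2, 0, 0, 0, 3, 0, 4, 0, 4, 0, 0, 3, 0, 0, 4, 2, 4, 1, 3, 1, 4, 2, 0, 0, 4, 4, 2, 0, 4, 0, 3, 0, 3, 3, 1, 1, 3, 0, 0, 3, 1, 4, 1, 2, 0, 4]]),
   (1, 689317, [], [], []),
   (1, 3294342, [], [], []),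
   (0, 7, [689317, 3294342], [], [[], [2, 1, 1, 4, 1, 4, 1, 3, 0, 2, 0, 0, 0, 3, 3, 1, 2, 1, 1, 1, 1, 3, 1, 2, 0, 4, 0, 4, 4, 1, 4, 4, 2, 0, 0, 0, 3, 3, 1, 1, 3, 0, 0, 3, 1, 4, 1, 2, 0, 4], [0, 0, 0, 4, 0, 2, 0, 0, 0, 0, 0, 0, 0, 0, 3, 3, 1, 2, 1, 1, 1, 3, 0, 4, 0, 0, 3, 0, 4, 2, 0, 3, 0, 3, 0, 4, 1, 1, 4, 0, 0, 4, 4]]),
   (0, 10, [689317, 3294342], [], [[], [0, 0, 0, 4, 0, 2, 0, 0, 0, 0, 0, 2, 1, 4, 4, 0, 4, 4, 1, 1, 4, 2, 4, 4, 1, 4, 4, 2, 1, 3, 3, 0, 0, 3, 1, 4, 1, 3, 3, 1, 1, 3, 0, 0, 3, 1, 4, 1, 2, 0, 4]]),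
   (0, 8, [6292775, 340831], [], [[]]),
   (0, 3, [5279, 198058], [], [[]]),
   (0, 4, [5279, 10558], [], [[]]),
   (0, 6, [262637, 18147], [], [[]]),
   (0, 9, [18147, 340831], [], [[]]),
   (0, 11, [10558, 36294], [], [[]]),
   (0, 12, [5279], [], [[]]),
   (0, 13, [10558], [], [[]]),
   (0, 14, [18147], [], [[]]),
   (0, 15, [36294], [], [[]]),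
   (0, 16, [69395], [], [[]]),
   (0, 17, [133817], [], [[]]),
   (0, 18, [340831], [], [[]]),
   (0, 19, [689317], [], [[]]),
   (0, 20, [1050548], [], [[]]),
   (0, 21, [3294342], [], [[]]),
   (0, 22, [4196943], [], [[]]),
   (0, 23, [], [], [[]])]

def pairProgD4 : List (ℕ × ℕ × List ℕ × List ℕ × List (List ℕ)) :=
  [(0, 0, [340831], [1035448], [[], [0, 2, 0, 0, 2, 3, 2, 1, 1, 4, 1, 1, 2, 4, 1, 4, 1, 4, 1, 3, 2, 0, 0, 3, 3, 1, 3, 3, 0, 2, 0, 4, 1, 4, 0, 0, 0, 3, 2, 1, 4, 0, 3, 3, 1, 1, 3, 0, 0, 3, 1, 4, 1, 2, 0, 4], [0, 0, 2, 0, 0, 0, 0, 0, 3, 1, 2, 3, 2, 0, 4, 1, 3, 0, 0, 4, 1, 2, 0, 4, 1, 4, 2, 1, 3, 0, 4, 0, 3, 0, 4, 1, 1, 2, 0, 3, 0, 4, 1, 1, 4, 0, 0, 4, 4], [4, 0, 3, 0, 2, 0, 0, 3,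 1, 3, 3, 1, 3, 0, 0, 2, 0, 4, 4, 0, 3, 1, 3, 2, 4, 1, 4, 1, 3, 3, 2, 1, 1, 4, 2, 0, 4, 0, 3, 3, 2, 0, 0, 3, 1, 1, 3, 0, 0, 3, 1, 2, 0, 3, 0, 4, 1, 1, 4, 0, 0, 4, 4], [0, 0, 4, 0, 2, 0, 0, 2, 3, 0, 3, 0, 3, 0, 4, 1, 3, 1, 3, 1, 4, 0, 3, 0, 3, 2, 0, 0, 0, 0, 3, 0, 4, 1, 1, 4, 2, 4, 1, 3, 1, 4, 2, 0, 0, 4, 4, 2, 0, 4, 0, 3, 0, 3, 1, 2, 0, 3, 0, 4, 1, 1, 4, 0, 0, 4, 4], [2, 1, 4, 0, 4, 0, 2, 0, 2, 0, 4, 0, 4, 2, 4, 1, 3, 1, 3, 1, 4, 0, 3, 0, 3, 0, 3, 1, 4, 1, 3, 1, 4, 0, 3, 2, 0, 3, 1, 3, 1, 2, 0, 3, 0, 4, 1, 1, 4, 0, 0, 4, 4], [2, 1, 1, 2, 1, 4, 4, 0, 2, 0, 0, 0, 4, 0, 2, 0, 0, 0, 0, 0, 3, 3, 1, 4, 1, 1, 1, 3, 0, 3, 3, 0, 3, 3, 1, 1, 3, 0, 0, 3, 1, 4, 1, 2, 0, 4], [1, 3, 1, 3, 3, 3, 2, 1, 1, 1,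 2, 4, 1, 4, 2, 0, 0, 0, 3, 1, 3, 0, 0, 0, 0, 3, 3, 1, 2, 1, 1, 1, 1, 4, 1, 4, 1, 1, 3, 3, 1, 3, 0, 4, 1, 4, 1, 4]]),
   (0, 3, [340831, 1035448], [], [[], [2, 1, 1, 4, 1, 1, 2, 3, 3, 0, 2, 1, 3, 2, 1, 3, 2, 0, 0, 2, 1, 4, 4, 2, 1, 1, 1, 1, 1, 1, 3, 3, 2, 0, 3, 3, 1, 3, 3, 0, 4, 1, 1, 4, 0, 0, 4, 4], [4, 4, 0, 2, 0, 0, 3, 3, 1, 2, 1, 3, 2, 0, 0, 3, 3, 2, 3, 0, 4, 1, 1, 4, 0, 4, 2, 0, 4, 2, 1, 1, 1, 3, 3, 2, 0, 3, 3, 1, 3, 3, 0, 4, 1, 1, 4, 0, 0, 4, 4], [2, 1, 1, 4, 1, 1, 2, 4, 1, 4, 0, 0, 0, 3, 2, 1, 4, 0, 0, 3, 1, 2, 0, 4, 0, 4, 4, 1, 4, 4, 2, 0, 0, 0, 3, 3, 1, 1, 3, 0, 0, 3, 1, 4, 1, 2, 0, 4]]),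
   (0, 4, [340831, 1035448], [], [[], [4, 4, 0, 2, 0, 0, 3, 3, 1, 2, 1, 1, 4, 4, 0, 0, 3, 0, 4, 0, 0, 0, 3, 0, 4, 1, 1, 4, 0, 4, 2, 0, 4, 2, 4, 4, 1, 4, 4, 2, 1, 3, 3, 0, 0, 3, 1, 4, 1], [2, 1, 1, 4, 1, 1, 2, 3, 2, 0, 3, 3, 0, 4, 0, 0, 4, 2, 0, 0, 0, 2, 1, 4, 4, 2, 1, 1, 1, 4, 1, 4, 1, 1, 3, 3, 1, 3, 0, 4, 1, 4, 1, 3, 1, 1, 3, 0, 0, 3, 1, 4, 1, 2, 0, 4]]),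
   (0, 16, [340831, 1035448], [], [[], [0, 2, 0, 2, 1, 4, 4, 0, 2, 3, 0, 0, 0, 3, 3, 1, 4, 0, 0, 0, 0, 2, 1, 4, 4, 2, 1, 1, 1, 4, 1, 3, 1, 4, 2, 0, 0, 4, 4, 2, 0, 4, 0, 3, 0, 3, 3, 1, 1, 3, 0, 0, 3, 1, 4, 1, 2, 0, 4]]),
   (0, 18, [340831, 1035448], [], [[]]),
   (0, 2, [346141, 340831], [], [[]]),
   (1, 1100945, [], [], []),
   (0, 20, [1100945], [1035448], [[]]),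
   (0, 1, [1245726, 1413139], [], [[]]),
   (0, 5, [786999, 1116327], [], [[]]),
   (0, 6, [1384564, 262637], [], [[]]),
   (0, 7, [262637, 1035448], [], [[]]),
   (0, 8, [262637], [], [[]]),
   (0, 9, [99029, 340831], [], [[]]),
   (0, 10, [1050548], [], [[]]),
   (0, 11, [69395], [], [[]]),
   (0, 12, [5279], [], [[]]),
   (0, 13, [340831], [], [[]]),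
   (0, 14, [18147], [], [[]]),
   (0, 15, [1100945], [], [[]]),
   (0, 17, [133817], [], [[]]),
   (0, 19, [1035448], [], [[]]),
   (0, 21, [2101096], [], [[]]),
   (0, 22, [4196943], [], [[]]),
   (0, 23, [], [], [[]])]

def pairProgD6 : List (ℕ × ℕ × List ℕ × List ℕ × List (List ℕ)) :=
  [(0, 0, [340831], [57274], [[], [0, 0, 4, 2, 1, 1, 4, 1, 4, 2, 4, 4, 0, 0, 3, 0, 4, 0, 0, 2, 0, 3, 1, 1, 4, 0, 3, 1, 4, 2, 4, 1, 4, 1, 1, 3, 3, 1, 3, 0, 4, 1, 4, 1, 4], [4, 0, 2, 0, 0, 0, 0, 0, 0, 0, 4, 2, 3, 2, 0, 0, 3, 3, 1, 3, 3, 0, 2, 3, 0, 3, 1, 4, 1, 3, 1, 4, 0, 3, 2, 0, 3, 1], [1, 3, 1, 2, 1, 4, 2, 1, 1, 4, 4, 0, 4, 4, 4, 2, 1, 1, 1, 3, 3, 2, 0, 0, 4, 0, 2, 1, 3, 2, 0, 0, 3, 2, 0, 3, 0, 3, 1, 4, 1,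 3, 1, 4, 0, 3, 2, 0, 3, 1, 3, 3, 1, 1, 3, 0, 0, 3, 1, 4, 1, 2, 0, 4], [1, 1, 3, 0, 2, 1, 1, 3, 2, 4, 2, 1, 4, 0, 3, 2, 1, 4, 2, 1, 4, 0, 3, 2, 0, 4, 4, 1, 4, 0, 0, 0, 3, 2, 1, 4, 0, 0, 2, 1, 3, 3, 2, 0, 3, 0, 3, 0, 4, 1, 2, 1, 3, 3, 1, 1, 3, 0, 0, 3, 1, 4, 1, 2, 0, 4], [3, 0, 3, 0, 2, 0, 2, 1, 3, 0, 2, 0, 0, 0, 4, 0, 2, 0, 0, 0, 0, 0, 4, 1, 2, 0, 3, 0, 4, 1, 1, 4, 0, 0, 3, 0, 3, 1, 4, 1, 3, 1, 4, 0, 3, 2, 0, 3, 1, 3, 3, 1, 1, 3, 0, 0, 3, 1, 4, 1, 2, 0, 4]]),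
   (0, 2, [340831], [57274], [[], [3, 0, 2, 0, 2, 1, 4, 4, 0, 2, 0, 0, 0, 4, 0, 2, 0, 0, 0, 0, 3, 3, 1, 4, 0, 3, 0, 0, 0, 0, 3, 1, 3, 1, 3, 3, 0, 3, 1, 1, 1, 3, 2, 0], [4, 0, 2, 0, 2, 1, 1, 4, 1, 4, 2, 1, 4, 2, 1, 4, 0, 3, 2, 0, 3, 2, 1, 3, 3, 0, 0, 0, 3, 1, 1, 2, 0, 0, 4, 0, 3, 3, 2, 0, 0, 3, 1, 1, 3, 0, 0], [2, 0, 4, 1, 4, 1, 1, 2, 4, 2, 0, 4, 1, 3, 3, 1, 2, 1, 1, 1, 1, 4, 1, 3, 0, 4, 0, 4, 2, 1, 1, 1, 3, 0, 3, 1, 3, 1, 2, 0, 3, 0, 4, 1, 1, 4, 0, 0, 4, 4], [0, 2, 0, 3, 0, 3, 0, 3, 0, 2, 1, 1, 4, 1, 4, 1, 3, 0, 0, 4, 0, 4, 0, 0, 3, 0, 0, 4, 1, 3, 3, 2, 0, 3, 0, 3, 0, 4, 1, 2, 1]]),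
   (1, 1100945, [], [], []),
   (0, 4, [1100945, 340831], [], [[]]),
   (0, 5, [57274], [340831, 1100945], [[]]),
   (0, 20, [1100945], [57274], [[]]),
   (0, 3, [5275709, 340831], [], [[]]),
   (0, 15, [5275709, 57274], [], [[]]),
   (0, 22, [5275709], [], [[]]),
   (1, 5279, [], [], []),
   (0, 1, [5279, 340831], [], [[], [0, 2, 0, 2, 1, 4, 4, 0, 2, 3, 0, 0, 0, 3, 3, 1, 4, 0, 0, 0, 0, 2, 1, 4, 4, 2, 1, 1, 1, 4, 1, 3, 1, 4, 2, 0, 0, 4, 4, 2, 0, 4, 0, 3, 0, 3, 3, 1, 1, 3, 0, 0, 3, 1, 4, 1, 2, 0, 4]]),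
   (0, 6, [45159, 1065303], [], [[]]),
   (0, 7, [1212619, 57274], [], [[]]),
   (0, 8, [262637, 57274], [], [[]]),
   (0, 9, [99029, 57274], [], [[]]),
   (0, 10, [1050548], [], [[]]),
   (0, 11, [36294], [], [[]]),
   (0, 12, [5279], [], [[]]),
   (0, 13, [10558], [], [[]]),
   (0, 14, [57274], [], [[]]),
   (0, 16, [69395], [], [[]]),
   (0, 17, [133817], [], [[]]),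
   (0, 18, [340831], [], [[]]),
   (0, 19, [525274], [], [[]]),
   (0, 21, [2101096], [], [[]]),
   (0, 23, [], [], [[]])]

def pairProgD8 : List (ℕ × ℕ × List ℕ × List ℕ × List (List ℕ)) :=
  [(0, 0, [28637, 340831], [], [[], [0, 0, 3, 3, 0, 2, 0, 2, 0, 0, 3, 1, 2, 4, 2, 1, 1, 1, 3, 3, 2, 0, 0, 0, 3, 3, 1, 2, 1, 1, 1, 1, 3, 1, 2, 0, 3, 0, 4, 1, 1, 4, 0, 0, 4, 4], [0, 0, 0, 2, 1, 1, 3, 0, 4, 1, 1, 1, 3, 1, 3, 1, 4, 4, 1, 2, 3, 2, 0, 0, 3, 3, 1, 3, 3, 0, 2, 3, 1, 3, 1, 3, 3, 0, 3, 1, 1, 1, 3, 2, 0, 3, 1, 2, 0, 3, 0, 4, 1, 1, 4, 0, 0, 4, 4], [4, 0, 0, 4, 4, 0, 3, 1, 3, 3, 1, 3, 0, 0, 0, 0, 2, 1, 4, 4, 2, 4, 0, 2, 1, 3, 2, 0, 0, 3, 2, 0], [4, 0, 2, 1, 3, 2, 0, 2, 1, 4, 4, 2, 0, 2, 1, 4, 4, 2,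 1, 1, 4, 1, 4, 1, 3, 3, 2, 1, 1, 4, 2, 4, 1, 4, 0, 0, 0, 3, 2, 1, 4, 0, 3, 1, 2, 0, 3, 0, 4, 1, 1, 4, 0, 0, 4, 4], [0, 0, 4, 0, 0, 2, 0, 2, 0, 4, 1, 4, 1, 1, 2, 1, 4, 2, 1, 4, 0, 3, 2, 0, 4, 0, 3, 0, 4, 1, 1, 4, 0, 4, 2, 0, 4, 2, 4, 1, 3, 1, 4, 2, 0, 0, 4, 4, 2, 0, 4, 0, 3, 0], [2, 1, 4, 0, 4, 4, 0, 2, 0, 4, 2, 1, 3, 0, 3, 2, 4, 1, 4, 2, 0, 0, 0, 3, 1, 3, 0, 3, 3, 1, 4, 1, 1, 1, 3, 0, 3, 3, 0, 0, 3, 0, 4, 0, 0, 3, 0, 4, 2, 0, 3, 2, 0, 4], [1, 3, 1, 3, 2, 1, 3, 0, 4, 1, 1, 2, 4, 4, 2, 0, 0, 0, 3, 2, 0, 0, 0, 3, 3, 1, 2, 1, 1, 1, 1, 1, 1, 1, 3, 3, 2, 0, 3, 3, 1, 3, 1, 2, 0, 4]]),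
   (0, 1, [340831], [28637], [[], [0, 2, 0, 2, 1, 4, 4, 0, 2, 3, 0, 0, 0, 3, 3, 1, 4, 0, 0, 0, 0, 2, 1, 4, 4, 2, 1, 1, 1, 4, 1, 3, 1, 4, 2, 0, 0, 4, 4, 2, 0, 4, 0, 3, 0, 3, 3, 1, 1, 3, 0, 0, 3, 1, 4, 1, 2, 0, 4], [3, 3, 0, 2, 0, 2, 1, 1, 4, 1, 4, 0, 4, 4, 0, 3, 1, 3, 2, 4, 1, 4, 1, 3, 3, 2, 1, 1, 4, 2, 3, 0, 4, 0, 0, 3, 0, 4, 2, 0, 3, 2, 0, 4], [3, 2, 1, 3, 0, 2, 3, 0, 0, 0, 3, 3, 1, 4, 0, 3, 2, 0, 4, 1, 3, 0, 0, 4, 1, 2, 0, 4, 1, 4, 0, 0, 0, 3, 2, 1, 4, 0, 3, 3, 1, 1, 3, 0, 0, 3, 1, 4, 1, 2, 0, 4]]),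
   (0, 12, [340831], [28637], [[], [3, 1, 3, 1, 4, 4, 1, 1, 4, 1, 3, 1, 3, 1, 4, 0, 3, 3, 3, 1, 4, 0, 3, 0, 0, 0, 0, 0, 4, 1, 4, 0, 0, 0, 3, 2, 1, 4, 0, 3, 3, 1, 1, 3, 0, 0, 3, 1, 4, 1, 2, 0, 4], [2, 1, 3, 0, 2, 0, 0, 0, 4, 0, 2, 0, 0, 0, 0, 0, 2, 0, 0, 4, 1, 3, 2, 0, 0, 0, 0, 4, 1, 2, 1, 3, 3, 2, 0, 3, 0, 3, 0, 4, 1, 2, 1, 3, 3, 1, 1, 3, 0, 0, 3, 1, 4, 1, 2, 0, 4]]),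
   (0, 16, [340831], [28637], [[], [3, 0, 3, 0, 3, 0, 3, 2, 0, 4, 1, 3, 0, 0, 4, 1, 2, 3, 0, 3, 1, 4, 1, 3, 1, 4, 0, 3, 2, 0, 3, 1, 3, 3, 1, 1, 3, 0, 0, 3, 1, 4, 1, 2, 0, 4]]),
   (0, 18, [340831], [28637], [[]]),
   (0, 4, [1413139, 28637], [], [[]]),
   (1, 5279, [], [], []),
   (1, 69395, [], [], []),
   (0, 7, [5279], [340831, 69395], [[]]),
   (0, 2, [5279, 864389], [], [[]]),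
   (0, 3, [5279, 340831], [], [[]]),
   (0, 5, [4526126, 78514], [], [[]]),
   (0, 6, [262637, 21116], [], [[]]),
   (0, 8, [262637], [], [[]]),
   (0, 9, [340831, 69395], [], [[]]),
   (0, 10, [5279], [], [[]]),
   (0, 11, [69395], [], [[]]),
   (0, 13, [340831], [], [[]]),
   (0, 14, [28637], [], [[]]),
   (0, 15, [36294], [], [[]]),
   (0, 17, [133817], [], [[]]),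
   (0, 19, [525274], [], [[]]),
   (0, 20, [1050548], [], [[]]),
   (0, 21, [2101096], [], [[]]),
   (0, 22, [4196943], [], [[]]),
   (0, 23, [], [], [[]])]


theorem pairProgO_ok : gProgOK [5279] 0 pairProgO = true := by decide +kernel
theorem pairProgO0_ok : gProgOK [1009728, 5279] 0 pairProgO0 = true := by decide +kernel
theorem pairProgO2_ok : gProgOK [31554, 5279] 0 pairProgO2 = true := by decide +kernel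
theorem pairProgO4_ok : gProgOK [10558, 5279] 0 pairProgO4 = true := by decide +kernel
theorem pairProgD_ok : gProgOK [340831] 0 pairProgD = true := by decide +kernel
theorem pairProgD4_ok : gProgOK [1035448, 340831] 0 pairProgD4 = true := by decide +kernel
theorem pairProgD6_ok : gProgOK [57274, 340831] 0 pairProgD6 = true := by decide +kernel
theorem pairProgD8_ok : gProgOK [28637, 340831] 0 pairProgD8 = true := by decide +kernel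

/-- class of codewords of weight `n` meeting the mask `M` in `j` points -/
def interClass (n M j : ℕ) : Finset (Finset GolayPt) :=
  cwClass n (fun m => Nat.beq (gPopc (Nat.land m M)) j)

theorem mem_interClass {n M j : ℕ} {o : Finset GolayPt} :
    o ∈ interClass n M j ↔
      o ∈ wordsOfWeight (golayCode : Set (GolayPt → ZMod 2)) n ∧ (o ∩ gSupp M).card = j := by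
  have h := cwClass_eq n (fun m => Nat.beq (gPopc (Nat.land m M)) j)
    (fun o => (o ∩ gSupp M).card = j) (fun m => inter_card_mask_iff m M j)
  have h2 : o ∈ (interClass n M j : Set (Finset GolayPt)) ↔
      o ∈ {o : Finset GolayPt | o ∈ wordsOfWeight (golayCode : Set (GolayPt → ZMod 2)) n ∧
        (o ∩ gSupp M).card = j} := by
    rw [h]; rfl
  exact h2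

theorem interClass_card (n M j : ℕ) : (interClass n M j).card =
    gCountLt 4096 (fun k => Nat.beq (gPopc (gCw k)) n &&
      Nat.beq (gPopc (Nat.land (gCw k) M)) j) := cwClass_card _ _

theorem interClass_ncard (n M j : ℕ) :
    {o : Finset GolayPt | o ∈ wordsOfWeight (golayCode : Set (GolayPt → ZMod 2)) n ∧
      (gSupp M ∩ o).card = j}.ncard = (interClass n M j).card := by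
  rw [← Set.ncard_coe_finset]
  congr 1
  ext o
  rw [Set.mem_ofPred_eq, Finset.mem_coe, mem_interClass, Finset.inter_comm]

/-- transport of intersection counts along an element of `M24` -/
theorem inter_count_transport (n j : ℕ) {g : Equiv.Perm GolayPt} (hg : g ∈ M24)
    (a b : Finset GolayPt) (hab : g • a = b) :
    {o : Finset GolayPt | o ∈ wordsOfWeight (golayCode : Set (GolayPt → ZMod 2)) n ∧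
      (b ∩ o).card = j}.ncard =
    {o : Finset GolayPt | o ∈ wordsOfWeight (golayCode : Set (GolayPt → ZMod 2)) n ∧
      (a ∩ o).card = j}.ncard := by
  have e : {o : Finset GolayPt | o ∈ wordsOfWeight (golayCode : Set (GolayPt → ZMod 2)) n ∧
      (b ∩ o).card = j} = (fun o : Finset GolayPt => g • o) ''
      {o : Finset GolayPt | o ∈ wordsOfWeight (golayCode : Set (GolayPt → ZMod 2)) n ∧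
      (a ∩ o).card = j} := by
    ext o
    simp only [Set.mem_ofPred_eq, Set.mem_image]
    constructor
    · rintro ⟨ho, hc⟩
      refine ⟨g⁻¹ • o, ⟨smul_mem_wordsOfWeight (M24.inv_mem hg) ho, ?_⟩, smul_inv_smul g o⟩
      have h1 : a ∩ g⁻¹ • o = g⁻¹ • (b ∩ o) := by
        rw [Finset.smul_finset_inter, ← hab, inv_smul_smul]
      rw [h1, Finset.card_smul_finset, hc]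
    · rintro ⟨o', ⟨ho', hc⟩, rfl⟩
      refine ⟨smul_mem_wordsOfWeight hg ho', ?_⟩
      rw [← hab, ← Finset.smul_finset_inter, Finset.card_smul_finset, hc]
  rw [e]
  exact Set.ncard_image_of_injective _ (MulAction.injective g)

/-- transitivity of the stabilizer of the mask `M` on the words of weight `n` meeting it in `j`
points, from two order certificates -/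
theorem pair_trans (n M j x : ℕ) (pK pS : List (ℕ × ℕ × List ℕ × List ℕ × List (List ℕ)))
    (hK : gProgOK [M] 0 pK = true) (hS : gProgOK [x, M] 0 pS = true)
    (hx : gSupp x ∈ interClass n M j)
    (hc : gProgProd 0 pK = (interClass n M j).card * gProgProd 0 pS)
    (y y' : Finset GolayPt)
    (hy : y ∈ wordsOfWeight (golayCode : Set (GolayPt → ZMod 2)) n)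
    (hy' : y' ∈ wordsOfWeight (golayCode : Set (GolayPt → ZMod 2)) n)
    (hj : (gSupp M ∩ y).card = j) (hj' : (gSupp M ∩ y').card = j) :
    ∃ g ∈ M24, g • gSupp M = gSupp M ∧ g • y = y' := by
  have key := class_trans [M] 0 x (interClass n M j) (by
    intro g hg
    rw [mem_interClass] at hx ⊢
    exact ⟨smul_mem_wordsOfWeight hg.1 hx.1, by
      rw [smul_inter_card (hg.2.1 M List.mem_cons_self)]; exact hx.2⟩) pK pS hK hS hc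
  obtain ⟨g1, hg1, h1⟩ := key y (mem_interClass.2 ⟨hy, by rw [Finset.inter_comm]; exact hj⟩)
  obtain ⟨g2, hg2, h2⟩ := key y' (mem_interClass.2 ⟨hy', by rw [Finset.inter_comm]; exact hj'⟩)
  have hs1 : g1 • gSupp M = gSupp M := (setInv_iff_smul g1 M).1 (hg1.2.1 M List.mem_cons_self)
  have hs2 : g2 • gSupp M = gSupp M := (setInv_iff_smul g2 M).1 (hg2.2.1 M List.mem_cons_self)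
  refine ⟨g2 * g1⁻¹, M24.mul_mem hg2.1 (M24.inv_mem hg1.1), ?_, ?_⟩
  · rw [mul_smul]
    conv_lhs => rw [← hs1]
    rw [inv_smul_smul, hs2]
  · rw [mul_smul, ← h1, inv_smul_smul, h2]

/-- conjugating `pair_trans` to an arbitrary image of the mask -/
theorem pair_trans_conj (M : ℕ) (c : Equiv.Perm GolayPt) (hc : c ∈ M24) (o y y' : Finset GolayPt)
    (ho : c • gSupp M = o)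
    (h : ∃ g ∈ M24, g • gSupp M = gSupp M ∧ g • (c⁻¹ • y) = c⁻¹ • y') :
    ∃ g : Equiv.Perm GolayPt, g ∈ M24 ∧ g • o = o ∧ g • y = y' := by
  obtain ⟨g, hg, h1, h2⟩ := h
  refine ⟨c * g * c⁻¹, M24.mul_mem (M24.mul_mem hc hg) (M24.inv_mem hc), ?_, ?_⟩
  · rw [mul_smul, mul_smul, ← ho, inv_smul_smul, h1]
  · rw [mul_smul, mul_smul, h2, smul_inv_smul]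

theorem octO_count0 : gCountLt 4096 (fun k => Nat.beq (gPopc (gCw k)) 8 &&
    Nat.beq (gPopc (Nat.land (gCw k) 5279)) 0) = 30 := by decide +kernel
theorem octO_count2 : gCountLt 4096 (fun k => Nat.beq (gPopc (gCw k)) 8 &&
    Nat.beq (gPopc (Nat.land (gCw k) 5279)) 2) = 448 := by decide +kernel
theorem octO_count4 : gCountLt 4096 (fun k => Nat.beq (gPopc (gCw k)) 8 &&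
    Nat.beq (gPopc (Nat.land (gCw k) 5279)) 4) = 280 := by decide +kernel
theorem dodD_count4 : gCountLt 4096 (fun k => Nat.beq (gPopc (gCw k)) 12 &&
    Nat.beq (gPopc (Nat.land (gCw k) 340831)) 4) = 495 := by decide +kernel
theorem dodD_count6 : gCountLt 4096 (fun k => Nat.beq (gPopc (gCw k)) 12 &&
    Nat.beq (gPopc (Nat.land (gCw k) 340831)) 6) = 1584 := by decide +kernel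
theorem dodD_count8 : gCountLt 4096 (fun k => Nat.beq (gPopc (gCw k)) 12 &&
    Nat.beq (gPopc (Nat.land (gCw k) 340831)) 8) = 495 := by decide +kernel

theorem mem_interClass_of_check (n M j x : ℕ)
    (h : (Nat.blt x 16777216 && gIsCw x && Nat.beq (gPopc x) n &&
      Nat.beq (gPopc (Nat.land x M)) j) = true) : gSupp x ∈ interClass n M j := by
  simp only [Bool.and_eq_true] at h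
  obtain ⟨⟨⟨h1, h2⟩, h3⟩, h4⟩ := h
  rw [mem_interClass]
  refine ⟨?_, (inter_card_mask_iff x M j).2 h4⟩
  rw [mem_wordsOfWeight_golay_iff]
  have e : gCw (Nat.shiftRight x 12) = x := Nat.eq_of_beq_eq_true h2
  have hm : x < 16777216 := Nat.le_of_ble_eq_true h1
  refine ⟨Nat.shiftRight x 12, ?_, by rw [e], by rw [e]; exact Nat.eq_of_beq_eq_true h3⟩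
  show x >>> 12 < 4096
  rw [Nat.shiftRight_eq_div_pow]
  omega

/-- S1556: the stabilizer of an octad is transitive on the octads meeting it in a given number
of points -/
theorem octad_pair_trans (o o' o'' : Finset GolayPt) (ho : o ∈ octads) (ho' : o' ∈ octads)
    (ho'' : o'' ∈ octads) (h : (o ∩ o').card = (o ∩ o'').card) :
    ∃ g : Equiv.Perm GolayPt, g ∈ M24 ∧ g • o = o ∧ g • o' = o'' := by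
  obtain ⟨c, hc, hco⟩ := M24_octad_trans gO0 o gO0_mem ho
  have hci := M24.inv_mem hc
  have hy := smul_mem_octads hci ho'
  have hy' := smul_mem_octads hci ho''
  have e1 : (gSupp 5279 ∩ c⁻¹ • o').card = (o ∩ o').card := by
    have : gSupp 5279 = c⁻¹ • o := by rw [← hco, inv_smul_smul]; rfl
    rw [this, ← Finset.smul_finset_inter, Finset.card_smul_finset]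
  have e2 : (gSupp 5279 ∩ c⁻¹ • o'').card = (o ∩ o'').card := by
    have : gSupp 5279 = c⁻¹ • o := by rw [← hco, inv_smul_smul]; rfl
    rw [this, ← Finset.smul_finset_inter, Finset.card_smul_finset]
  apply pair_trans_conj 5279 c hc o o' o'' hco
  rcases octad_inter_card ho ho' with h0 | h0 | h0 | h0
  · exact pair_trans 8 5279 0 1009728 pairProgO pairProgO0 pairProgO_ok pairProgO0_ok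
      (mem_interClass_of_check _ _ _ _ (by decide +kernel))
      (by rw [interClass_card, octO_count0]; decide +kernel) _ _ hy hy'
      (by rw [e1, h0]) (by rw [e2, ← h, h0])
  · exact pair_trans 8 5279 2 31554 pairProgO pairProgO2 pairProgO_ok pairProgO2_ok
      (mem_interClass_of_check _ _ _ _ (by decide +kernel))
      (by rw [interClass_card, octO_count2]; decide +kernel) _ _ hy hy'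
      (by rw [e1, h0]) (by rw [e2, ← h, h0])
  · exact pair_trans 8 5279 4 10558 pairProgO pairProgO4 pairProgO_ok pairProgO4_ok
      (mem_interClass_of_check _ _ _ _ (by decide +kernel))
      (by rw [interClass_card, octO_count4]; decide +kernel) _ _ hy hy'
      (by rw [e1, h0]) (by rw [e2, ← h, h0])
  · -- both equal `o`
    have h1 : o' = o := by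
      have := octad_eq_of_inter ho ho' (by rw [h0]; norm_num)
      exact this.symm
    have h2 : o'' = o := by
      have := octad_eq_of_inter ho ho'' (by rw [← h, h0]; norm_num)
      exact this.symm
    refine ⟨1, M24.one_mem, ?_, ?_⟩
    · rw [one_smul]
    · rw [one_smul, h1, h2]

end Cfsg.Agent.Helper3
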